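import Groth.Agent.BiratNormLib.Fibre
import Groth.Agent.AlgSpLib.DecentPack
/-!
# Birational morphisms under etale base change to an affine scheme
-/

set_option autoImplicit false
set_option linter.all false
set_option backward.isDefEq.respectTransparency false
set_option backward.isDefEq.respectTransparency.types false

noncomputable section

universe u

open CategoryTheory CategoryTheory.Limits AlgebraicGeometry AlgSp AlgSpLib TopologicalSpace

namespace BiratNormLib

section Top

variable {α : Type u} [TopologicalSpace α] [QuasiSober α] [T0Space α]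

theorem finite_irreducibleComponents_iff :
    (irreducibleComponents α).Finite ↔ (genericPoints α).Finite := by
  constructor
  · intro h
    have : Finite (irreducibleComponents α) := h.to_subtype
    exact Set.finite_coe_iff.1 (Finite.of_injective _ (genericPoints.component_injective (α := α)))
  · intro h
    refine (h.image (fun x => closure {x})).subset fun Z hZ => ?_
    have hg := hZ.1.isGenericPoint_genericPoint (isClosed_of_mem_irreducibleComponents _ hZ)
    refine ⟨hZ.1.genericPoint, ?_, hg.def⟩
    show closure {_} ∈ irreducibleComponents α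
    rwa [hg.def]

end Top

/-- A section over the local scheme inverse to the stalk map makes the stalk map invertible. -/
theorem isIso_stalkMap_of_section {U V : Scheme.{u}} (h : U ⟶ V) (u : U)
    (σ : Spec (V.presheaf.stalk (h u)) ⟶ U) (hσu : σ (IsLocalRing.closedPoint _) = u)
    (hσ : σ ≫ h = V.fromSpecStalk (h u))
    (hu : Spec.map (h.stalkMap u) ≫ σ = U.fromSpecStalk u) : IsIso (h.stalkMap u) := by
  have key : ∀ u', σ (IsLocalRing.closedPoint _) = u' →
      ∃ φ, Spec.map φ ≫ U.fromSpecStalk u' = σ := by
    rintro _ rfl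
    exact ⟨_, Scheme.Spec_stalkClosedPointTo_fromSpecStalk σ⟩
  obtain ⟨φ, hφ⟩ := key u hσu
  have h1 : Spec.map φ ≫ Spec.map (h.stalkMap u) = 𝟙 _ := by
    rw [← cancel_mono (V.fromSpecStalk (h u)), Category.assoc, Scheme.SpecMap_stalkMap_fromSpecStalk,
      ← Category.assoc, hφ, hσ, Category.id_comp]
  have h2 : Spec.map (h.stalkMap u) ≫ Spec.map φ = 𝟙 _ := by
    rw [← cancel_mono (U.fromSpecStalk u), Category.assoc, hφ, hu, Category.id_comp]
  rw [← Spec.map_comp, ← Spec.map_id] at h1 h2
  exact ⟨φ, Spec.map_injective h1, Spec.map_injective h2⟩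

variable {S : Scheme.{u}}

/-- Birationality is preserved by etale base change to an affine scheme. -/
theorem isBirational_baseChange {X Y : AlgSp.Space S} (f : X ⟶ Y) (hX : IsDecent X.obj) (hY : IsDecent Y.obj)
    (hYf : (irreducibleComponents (Points Y.obj)).Finite)
    (hf : W4stk3decentspacesp2.IsBirational f.hom) {V : Over S} [IsAffine V.left] {b : (yon S).obj V ⟶ Y.obj}
    (hb : RepWith @Etale b) {P : Sp S} {fst : P ⟶ X.obj} {snd : P ⟶ (yon S).obj V}
    (hP : IsPullback fst snd f.hom b) :
    IsDecent P ∧ (irreducibleComponents (Points P)).Finite ∧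
      (irreducibleComponents (Points ((yon S).obj V))).Finite ∧ W4stk3decentspacesp2.IsBirational snd := by
  have hPalg : IsAlgSpace P := isAlgSpace_of_isPullback X.property (IsAlgSpace.yon_obj V) Y.property hP
  have hPd : IsDecent P := isDecent_pullback Y.property hP hX (isDecent_yon V)
  haveI := SpectralQuot.quasiSober_of_decent X hX
  haveI := SpectralQuot.quasiSober_of_decent Y hY
  haveI := SpectralQuot.quasiSober_of_decent (⟨P, hPalg⟩ : AlgSp.Space S) hPd
  haveI := SpectralQuot.quasiSober_of_decent (⟨_, IsAlgSpace.yon_obj V⟩ : AlgSp.Space S) (isDecent_yon V)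
  haveI := t0Space_points X.property hX
  haveI := t0Space_points Y.property hY
  haveI := t0Space_points hPalg hPd
  haveI := t0Space_points (IsAlgSpace.yon_obj V) (isDecent_yon V)
  let hm := Points.schemeHomeo V
  have hmax : ∀ v : V.left, (∀ w, w ⤳ v → w = v) ↔ hm v ∈ genericPoints (Points ((yon S).obj V)) := fun v => by
    rw [mem_genericPoints_iff]
    constructor
    · intro h y hy
      obtain ⟨w, rfl⟩ := hm.surjective y
      exact congrArg hm (h w (hm.isInducing.specializes_iff.1 hy))
    · intro h w hw
      exact hm.injective (h _ (hm.isInducing.specializes_iff.2 hw))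
  have hbm : ∀ v, Points.map b (hm v) = Points.ofPt b v := fun v => by rw [ofPt_comp_ofScheme]; rfl
  have hfl : LocP @Flat fst := locP_of_repWith
    (repWith_mono (fun _ _ g (_ : Etale g) => (inferInstance : Flat g)) (repWith_of_isPullback hP.flip hb))
  have hmapsX : ∀ z ∈ genericPoints (Points P), Points.map fst z ∈ genericPoints (Points X.obj) := fun z hz => by
    rw [mem_genericPoints_iff]
    intro x' hx'
    obtain ⟨p, hp, -, hq⟩ := hX x'
    obtain ⟨z', hz', e⟩ := exists_generalization_lift_of_flat X.property hPalg hfl hx' ⟨p, hp, hq⟩ rfl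
    rw [← e, mem_genericPoints_iff.1 hz z' hz']
  have hmapsV : ∀ z ∈ genericPoints (Points P), Points.map snd z ∈ genericPoints (Points ((yon S).obj V)) :=
    fun z hz => by
      obtain ⟨v, hv⟩ := hm.surjective (Points.map snd z)
      rw [← hv, ← hmax]
      refine isMax_of_isMax_ofPt Y.property hY hb ?_
      rw [← hbm, hv, ← Points.map_comp, ← hP.w, Points.map_comp]
      exact mem_genericPoints_iff.1 (hf.bijOn.mapsTo (hmapsX z hz))
  -- the base change to a local scheme at a generic point
  have local_iso : ∀ v : V.left, (∀ w, w ⤳ v → w = v) → ∀ (Q : Sp S) (q : Q ⟶ P)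
      (t : Q ⟶ (yon S).obj (Over.mk (V.left.fromSpecStalk v ≫ V.hom))),
      IsPullback q t snd ((yon S).map (Over.homMk (V.left.fromSpecStalk v) rfl)) → IsIso t := by
    intro v hv Q q t sq
    obtain ⟨x, hx, hxy⟩ := hf.bijOn.surjOn (mem_genericPoints_iff.2 (isMax_ofPt hY hb hv))
    haveI : IsAffine (Over.mk (V.left.fromSpecStalk v ≫ V.hom)).left :=
      inferInstanceAs (IsAffine (Spec (V.left.presheaf.stalk v)))
    refine isIso_baseChange_generic f hX hY hf hx (fun s => ?_) (sq.paste_horiz hP)
    rw [hxy, ofPt_yon_comp]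
    refine congrArg _ (hv _ ?_)
    have h : V.left.fromSpecStalk v s ∈ Set.range (V.left.fromSpecStalk v) := ⟨s, rfl⟩
    rw [Scheme.range_fromSpecStalk] at h
    exact h
  have huniq : ∀ v : V.left, (∀ w, w ⤳ v → w = v) → ∃! z, Points.map snd z = hm v := fun v hv => by
    let T : Over S := Over.mk (V.left.fromSpecStalk v ≫ V.hom)
    let j : T ⟶ V := Over.homMk (V.left.fromSpecStalk v) rfl
    have sq := IsPullback.of_hasPullback snd ((yon S).map j)
    haveI := local_iso v hv _ _ _ sq
    let c : T.left := IsLocalRing.closedPoint (V.left.presheaf.stalk v)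
    have hc : Points.map ((yon S).map j) (Points.schemeHomeo T c) = hm v := by
      rw [Points.map_yon_map_apply]; exact congrArg hm Scheme.fromSpecStalk_closedPoint
    refine ⟨Points.map (pullback.fst snd ((yon S).map j))
      (Points.map (inv (pullback.snd snd ((yon S).map j))) (Points.schemeHomeo T c)), ?_, fun z hz => ?_⟩
    · show Points.map snd _ = _
      rw [← Points.map_comp (pullback.fst snd ((yon S).map j)) snd, sq.w, Points.map_comp, ← Points.map_comp
        (inv (pullback.snd snd ((yon S).map j))), IsIso.inv_hom_id]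
      rw [show Points.map (𝟙 ((yon S).obj T)) (Points.schemeHomeo T c) = Points.schemeHomeo T c from Points.map_id _]
      exact hc
    · obtain ⟨w, hw1, hw2⟩ := exists_point_isPullback sq z (Points.schemeHomeo T c) (hz.trans hc.symm)
      rw [← hw2, ← Points.map_comp (pullback.snd snd ((yon S).map j)), IsIso.hom_inv_id,
        show Points.map (𝟙 _) w = w from Points.map_id w, hw1]
  have hbij : Set.BijOn (Points.map snd) (genericPoints (Points P)) (genericPoints (Points ((yon S).obj V))) := by
    refine ⟨hmapsV, fun z hz z' hz' e => ?_, fun y hy => ?_⟩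
    · obtain ⟨v, hv⟩ := hm.surjective (Points.map snd z)
      exact (huniq v ((hmax v).2 (hv ▸ hmapsV z hz))).unique hv.symm (e.symm.trans hv.symm)
    · obtain ⟨v, rfl⟩ := hm.surjective y
      obtain ⟨z, hz, hz'⟩ := huniq v ((hmax v).2 hy)
      obtain ⟨z', hgz, hs⟩ := exists_generic_generalization z
      refine ⟨z, ?_, hz⟩
      have h : Points.map snd z' = hm v :=
        mem_genericPoints_iff.1 hy _ (hz ▸ hs.map (Points.continuous_map snd))
      exact hz' z' h ▸ hgz
  have hVfin : (genericPoints (Points ((yon S).obj V))).Finite := by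
    have h1 : (⋃ y ∈ genericPoints (Points Y.obj), Points.ofPt b ⁻¹' {y}).Finite := by
      refine (finite_irreducibleComponents_iff.1 hYf).biUnion fun y _ => ?_
      obtain ⟨p, rfl, -, hq⟩ := hY y
      exact finite_fibre_of_qc_point hq hb
    refine (h1.image hm).subset fun y hy => ?_
    obtain ⟨v, rfl⟩ := hm.surjective y
    exact ⟨v, Set.mem_biUnion (mem_genericPoints_iff.2 (isMax_ofPt hY hb ((hmax v).2 hy))) rfl, rfl⟩
  refine ⟨hPd, finite_irreducibleComponents_iff.2 (hbij.finite_iff_finite.2 hVfin),
    finite_irreducibleComponents_iff.2 hVfin, ⟨hbij, fun z hz => ?_⟩⟩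
  -- open subschemes with isomorphic local rings
  obtain ⟨U, W, a, b₀, g, u, ha, hb₀, e₀, hu, -⟩ := hf.stalkIso _ (hmapsX z hz)
  obtain ⟨U2, pV, pU, sq0⟩ := exists_isPullback_yon b (a ≫ f.hom) hb.rep
  let e : (yon S).obj U2 ⟶ P := hP.lift ((yon S).map pU ≫ a) ((yon S).map pV) (by
    rw [Category.assoc]; exact sq0.w.symm)
  have he1 : e ≫ fst = (yon S).map pU ≫ a := hP.lift_fst _ _ _
  have he2 : e ≫ snd = (yon S).map pV := hP.lift_snd _ _ _
  have sqe : IsPullback e ((yon S).map pU) fst a := by
    have big : IsPullback (e ≫ snd) ((yon S).map pU) b (a ≫ f.hom) := he2.symm ▸ sq0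
    exact IsPullback.of_right big he1 hP.flip
  have hopen : RepWith @IsOpenImmersion e := repWith_of_isPullback sqe.flip ha
  obtain ⟨w, hw, -⟩ := exists_point_isPullback sqe z (Points.schemeHomeo U u) (by
    rw [← hu, ofPt_comp_ofScheme]; rfl)
  obtain ⟨u2, rfl⟩ := (Points.schemeHomeo U2).surjective w
  haveI : Mono e := mono_of_repWith (fun g (_ : IsOpenImmersion g) => (inferInstance : Mono g)) hopen
  refine ⟨U2, V, e, 𝟙 _, pV, u2, hopen, repWith_of_isIso _, by rw [he2, Category.comp_id],
    by rw [ofPt_comp_ofScheme]; exact hw, ?_⟩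
  have hv : ∀ w, w ⤳ pV.left u2 → w = pV.left u2 := by
    rw [hmax]
    have h : hm (pV.left u2) = Points.map snd z := by
      rw [← hw, ← Points.map_comp, he2, Points.map_yon_map_apply]
    rw [h]
    exact hmapsV z hz
  let v := pV.left u2
  let T : Over S := Over.mk (V.left.fromSpecStalk v ≫ V.hom)
  let j : T ⟶ V := Over.homMk (V.left.fromSpecStalk v) rfl
  have sqT := IsPullback.of_hasPullback snd ((yon S).map j)
  haveI := local_iso v hv _ _ _ sqT
  let σP : (yon S).obj T ⟶ P := inv (pullback.snd snd ((yon S).map j)) ≫ pullback.fst snd ((yon S).map j)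
  have hσP : σP ≫ snd = (yon S).map j := by rw [Category.assoc, sqT.w, IsIso.inv_hom_id_assoc]
  have huP : ∀ {R : Over S} (α : (yon S).obj R ⟶ P) (β : R ⟶ T), α ≫ snd = (yon S).map (β ≫ j) →
      α = (yon S).map β ≫ σP := fun {R} α β h => by
    let l := sqT.lift α ((yon S).map β) (by rw [h, Functor.map_comp])
    have hl2 : l ≫ pullback.snd snd ((yon S).map j) = (yon S).map β := sqT.lift_snd _ _ _
    have hl : l = (yon S).map β ≫ inv (pullback.snd snd ((yon S).map j)) := by rw [← hl2]; simp
    rw [← sqT.lift_fst α ((yon S).map β) (by rw [h, Functor.map_comp])]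
    show l ≫ _ = _
    rw [hl, Category.assoc]
  -- the section lands in the open subscheme
  let k := hopen.rep.snd σP
  haveI : IsOpenImmersion k.left := hopen.property σP _ _ (hopen.rep.isPullback' σP)
  haveI : Surjective k.left := ⟨fun s => by
    have h1 : Points.map snd (Points.ofPt σP s) = hm v := by
      rw [Points.map_ofPt, hσP, ofPt_comp_ofScheme, Function.comp_apply]
      show Points.map ((yon S).map j) (Points.schemeHomeo T s) = hm v
      rw [Points.map_yon_map_apply]
      refine congrArg hm (hv _ ?_)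
      have h : V.left.fromSpecStalk v s ∈ Set.range (V.left.fromSpecStalk v) := ⟨s, rfl⟩
      rw [Scheme.range_fromSpecStalk] at h
      exact h
    have h2 : Points.map snd z = hm v := by rw [← hw, ← Points.map_comp, he2, Points.map_yon_map_apply]
    have h3 : Points.ofPt σP s = Points.ofPt e u2 := by
      rw [(huniq v hv).unique h1 h2, ofPt_comp_ofScheme]; exact hw.symm
    obtain ⟨w, -, hw'⟩ := (ofPt_eq_ofPt_iff (hopen.rep.isPullback' σP) u2 s).1 h3.symm
    exact ⟨w, hw'⟩⟩
  haveI : IsIso k := by
    haveI : IsIso ((Over.forget S).map k) := by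
      haveI : Epi k.left.base := (TopCat.epi_iff_surjective _).2 k.left.surjective
      exact IsOpenImmersion.isIso k.left
    exact isIso_of_reflects_iso k (Over.forget S)
  let σ : T ⟶ U2 := inv k ≫ hopen.rep.fst' σP
  have hσ : (yon S).map σ ≫ e = σP := by
    rw [Functor.map_comp, Category.assoc, (hopen.rep.isPullback' σP).w, ← Functor.map_comp_assoc,
      IsIso.inv_hom_id, CategoryTheory.Functor.map_id, Category.id_comp]
  have hσj : σ ≫ pV = j := (yon S).map_injective (by rw [Functor.map_comp, ← he2, reassoc_of% hσ, hσP])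
  let Tu : Over S := Over.mk (U2.left.fromSpecStalk u2 ≫ U2.hom)
  let ju : Tu ⟶ U2 := Over.homMk (U2.left.fromSpecStalk u2) rfl
  let st : Tu ⟶ T := Over.homMk (Spec.map (pV.left.stalkMap u2)) (by
    show Spec.map (pV.left.stalkMap u2) ≫ V.left.fromSpecStalk v ≫ V.hom = U2.left.fromSpecStalk u2 ≫ U2.hom
    rw [Scheme.SpecMap_stalkMap_fromSpecStalk_assoc, Over.w])
  have hst : st ≫ j = ju ≫ pV := Over.OverMorphism.ext (Scheme.SpecMap_stalkMap_fromSpecStalk pV.left)
  have hstσ : st ≫ σ = ju := (yon S).map_injective ((cancel_mono e).1 (by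
    rw [Functor.map_comp, Category.assoc, hσ]
    exact (huP ((yon S).map ju ≫ e) st (by rw [Category.assoc, he2, ← Functor.map_comp, hst])).symm))
  refine isIso_stalkMap_of_section pV.left u2 σ.left ?_ (congrArg Over.Hom.left hσj) (congrArg Over.Hom.left hstσ)
  have h := congrArg (fun φ : Tu ⟶ U2 => φ.left (IsLocalRing.closedPoint (U2.left.presheaf.stalk u2))) hstσ
  change σ.left (Spec.map (pV.left.stalkMap u2) (IsLocalRing.closedPoint _)) = U2.left.fromSpecStalk u2 _ at h
  rw [Scheme.fromSpecStalk_closedPoint] at h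
  rwa [Spec_closedPoint] at h

end BiratNormLib
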