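import Mathlib.AlgebraicGeometry.Morphisms.FinitePresentation
import Mathlib.AlgebraicGeometry.AffineScheme
import Mathlib.RingTheory.FinitePresentation
import Mathlib.AlgebraicGeometry.Properties
/-!
# A morphism with an isomorphism of local rings is an open immersion nearby
-/

set_option autoImplicit false
set_option linter.all false
set_option backward.isDefEq.respectTransparency false
set_option backward.isDefEq.respectTransparency.types false

universe u

open CategoryTheory CategoryTheory.Limits AlgebraicGeometry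

namespace BiratNormLib

section Ring

variable {A B : Type u} [CommRing A] [CommRing B] [Algebra A B]

/-- The map between localizations away from an element and a multiple of its image. -/
theorem isUnit_algebraMap_away {a : A} {f : B} (h : algebraMap A B a ∣ f) :
    IsUnit ((algebraMap B (Localization.Away f)).comp (algebraMap A B) a) := by
  obtain ⟨c, hc⟩ := h
  exact isUnit_of_mul_isUnit_left (y := algebraMap B (Localization.Away f) c)
    (by rw [RingHom.comp_apply, ← map_mul, ← hc]; exact IsLocalization.Away.algebraMap_isUnit f)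

noncomputable def away {a : A} {f : B} (h : algebraMap A B a ∣ f) : Localization.Away a →+* Localization.Away f :=
  IsLocalization.Away.lift a (isUnit_algebraMap_away h)

theorem away_algebraMap {a : A} {f : B} (h : algebraMap A B a ∣ f) (x : A) :
    away h (algebraMap A _ x) = algebraMap B _ (algebraMap A B x) :=
  IsLocalization.Away.lift_eq a (isUnit_algebraMap_away h) x

theorem exists_away_bijective [Algebra.FiniteType A B] (q : Ideal B) [q.IsPrime]
    (H : Function.Bijective (Localization.localRingHom (q.comap (algebraMap A B)) q (algebraMap A B) rfl))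
    (hk : IsDomain A ∨ Algebra.FinitePresentation A B) :
    ∃ (a : A) (f : B) (h : algebraMap A B a ∣ f), f ∉ q ∧ Function.Bijective (away h) := by
  classical
  let p := q.comap (algebraMap A B)
  obtain ⟨G, hG⟩ := (show Algebra.FiniteType A B from inferInstance).out
  have hfrac : ∀ x : B, ∃ c s t, s ∉ p ∧ t ∉ q ∧ t * (algebraMap A B s * x) = t * algebraMap A B c := fun x => by
    obtain ⟨y, hy⟩ := H.2 (algebraMap B (Localization.AtPrime q) x)
    obtain ⟨c, ⟨s, hs⟩, rfl⟩ := IsLocalization.exists_mk'_eq p.primeCompl y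
    rw [Localization.localRingHom_mk', IsLocalization.mk'_eq_iff_eq_mul, ← map_mul] at hy
    obtain ⟨⟨t, ht⟩, e⟩ := (IsLocalization.eq_iff_exists q.primeCompl _).1 hy
    exact ⟨c, s, t, hs, ht, by rw [mul_comm (algebraMap A B s) x]; exact e.symm⟩
  choose num den wit hden hwit hrel using hfrac
  have hp : ∀ r ∈ p.primeCompl, algebraMap A B r ∈ q.primeCompl := fun r hr => hr
  let a0 : A := ∏ x ∈ G, den x
  let f0 : B := (∏ x ∈ G, wit x) * algebraMap A B a0
  have ha0 : a0 ∈ p.primeCompl := Submonoid.prod_mem _ fun x _ => hden x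
  have hf0 : f0 ∈ q.primeCompl := q.primeCompl.mul_mem (Submonoid.prod_mem _ fun x _ => hwit x) (hp _ ha0)
  have hu : ∀ (f d : B), d ∣ f → IsUnit (algebraMap B (Localization.Away f) d) := fun f d ⟨c, hc⟩ =>
    isUnit_of_mul_isUnit_left (y := algebraMap B (Localization.Away f) c)
      (by rw [← map_mul, ← hc]; exact IsLocalization.Away.algebraMap_isUnit f)
  have huA : ∀ (a d : A), d ∣ a → IsUnit (algebraMap A (Localization.Away a) d) := fun a d ⟨c, hc⟩ =>
    isUnit_of_mul_isUnit_left (y := algebraMap A (Localization.Away a) c)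
      (by rw [← map_mul, ← hc]; exact IsLocalization.Away.algebraMap_isUnit a)
  have hgen : ∀ (a : A) (f : B) (h : algebraMap A B a ∣ f), a0 ∣ a → f0 ∣ f →
      ∀ x : B, algebraMap B _ x ∈ (away h).range := fun a f h ha hf x => by
    have hx : x ∈ Algebra.adjoin A (G : Set B) := hG ▸ Algebra.mem_top
    induction hx using Algebra.adjoin_induction with
    | mem x hx =>
      obtain ⟨v, hv⟩ := huA a (den x) ((Finset.dvd_prod_of_mem den hx).trans ha)
      have e : algebraMap B (Localization.Away f) (algebraMap A B (den x) * x) =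
          algebraMap B (Localization.Away f) (algebraMap A B (num x)) := by
        refine (hu f (wit x) ((dvd_mul_of_dvd_left (Finset.dvd_prod_of_mem wit hx) _).trans hf)).mul_left_cancel ?_
        rw [← map_mul, ← map_mul, hrel]
      refine ⟨↑v⁻¹ * algebraMap A _ (num x), ?_⟩
      rw [map_mul, away_algebraMap, ← e, map_mul, ← away_algebraMap h, ← hv, ← mul_assoc, ← map_mul (away h),
        Units.inv_mul, map_one, one_mul]
    | algebraMap c => exact ⟨_, away_algebraMap h c⟩
    | add x y _ _ hx hy => rw [map_add]; exact add_mem hx hy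
    | mul x y _ _ hx hy => rw [map_mul]; exact mul_mem hx hy
  -- `f0` is a fraction of elements of the base near `q`
  have h0 : algebraMap A B a0 ∣ f0 := ⟨_, mul_comm _ _⟩
  obtain ⟨y, hy⟩ := hgen a0 f0 h0 dvd_rfl dvd_rfl f0
  obtain ⟨c, ⟨_, n, rfl⟩, rfl⟩ := IsLocalization.exists_mk'_eq (Submonoid.powers a0) y
  have hy' : algebraMap B (Localization.Away f0) (algebraMap A B (a0 ^ n) * f0) =
      algebraMap B (Localization.Away f0) (algebraMap A B c) := by
    rw [map_mul, ← hy, ← away_algebraMap h0, ← away_algebraMap h0, ← map_mul]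
    exact congrArg _ (IsLocalization.mk'_spec' (Localization.Away a0) c (⟨a0 ^ n, n, rfl⟩ : Submonoid.powers a0))
  obtain ⟨⟨_, k, rfl⟩, hk'⟩ := (IsLocalization.eq_iff_exists (Submonoid.powers f0) _).1 hy'
  have hc : c ∈ p.primeCompl := fun hcp => by
    have h1 : algebraMap A B (a0 ^ n) * f0 ∈ q.primeCompl :=
      q.primeCompl.mul_mem (hp _ (pow_mem ha0 n)) hf0
    exact q.primeCompl.mul_mem (pow_mem hf0 k) h1 (by rw [hk']; exact Ideal.mul_mem_left _ _ hcp)
  let a : A → A := fun r => a0 * c * r
  let f : A → B := fun r => f0 * algebraMap A B (a r)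
  have hdv : ∀ r, algebraMap A B (a r) ∣ f r := fun r => ⟨f0, mul_comm _ _⟩
  have hfq : ∀ r, r ∈ p.primeCompl → f r ∉ q := fun r hr =>
    q.primeCompl.mul_mem hf0 (hp _ (p.primeCompl.mul_mem (p.primeCompl.mul_mem ha0 hc) hr))
  have surj : ∀ r, Function.Surjective (away (hdv r)) := fun r y => by
    obtain ⟨x, ⟨_, m, rfl⟩, rfl⟩ := IsLocalization.exists_mk'_eq (Submonoid.powers (f r)) y
    obtain ⟨z, hz⟩ := hgen (a r) (f r) (hdv r) (dvd_mul_of_dvd_left (dvd_mul_right _ _) _) (dvd_mul_right _ _) x
    obtain ⟨v, hv⟩ := huA (a r) c (dvd_mul_of_dvd_left (dvd_mul_left _ _) _)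
    obtain ⟨va, hva⟩ := huA (a r) (a r) dvd_rfl
    have e : algebraMap B (Localization.Away (f r)) f0 * away (hdv r) (algebraMap A _ (a0 ^ n)) =
        away (hdv r) (algebraMap A _ c) := by
      rw [away_algebraMap, away_algebraMap, ← map_mul, mul_comm f0]
      refine ((hu (f r) f0 (dvd_mul_right _ _)).pow k).mul_left_cancel ?_
      rw [← map_pow, ← map_mul, ← map_mul]
      exact congrArg _ hk'
    let w : Localization.Away (a r) := ↑va⁻¹ * (algebraMap A _ (a0 ^ n) * ↑v⁻¹)
    have hw : away (hdv r) w * algebraMap B _ (f r) = 1 := by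
      show away (hdv r) w * algebraMap B _ (f0 * algebraMap A B (a r)) = 1
      rw [map_mul (algebraMap B _), ← away_algebraMap (hdv r), map_mul, map_mul]
      calc away (hdv r) ↑va⁻¹ * (away (hdv r) (algebraMap A _ (a0 ^ n)) * away (hdv r) ↑v⁻¹) *
            (algebraMap B _ f0 * away (hdv r) (algebraMap A _ (a r)))
          = (away (hdv r) ↑va⁻¹ * away (hdv r) (algebraMap A _ (a r))) *
            ((algebraMap B _ f0 * away (hdv r) (algebraMap A _ (a0 ^ n))) * away (hdv r) ↑v⁻¹) := by ring
        _ = 1 := by rw [e, ← map_mul, ← map_mul, ← hva, ← hv, Units.inv_mul, Units.mul_inv, map_one, mul_one]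
    refine ⟨z * w ^ m, ?_⟩
    rw [eq_comm, IsLocalization.mk'_eq_iff_eq_mul, map_mul, map_pow, hz]
    change algebraMap B _ x = algebraMap B _ x * away (hdv r) w ^ m * algebraMap B _ (f r ^ m)
    rw [map_pow, mul_assoc, ← mul_pow, hw, one_pow, mul_one]
  -- elements killed in the local ring
  have hker : ∀ r x, algebraMap B (Localization.Away (f r)) (algebraMap A B x) = 0 → r ∈ p.primeCompl →
      ∃ t, t ∉ p ∧ t * x = 0 := fun r x hx hr => by
    obtain ⟨⟨_, m, rfl⟩, hm⟩ := (IsLocalization.map_eq_zero_iff (Submonoid.powers (f r)) _ _).1 hx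
    have h1 : algebraMap A (Localization.AtPrime p) x = 0 := H.1 (by
      rw [Localization.localRingHom_to_map, map_zero]
      exact (IsLocalization.map_eq_zero_iff q.primeCompl _ _).2 ⟨⟨f r ^ m, pow_mem (hfq r hr) m⟩, hm⟩)
    obtain ⟨⟨t, ht⟩, e⟩ := (IsLocalization.map_eq_zero_iff p.primeCompl _ _).1 h1
    exact ⟨t, ht, e⟩
  obtain ⟨r, hr, hinj⟩ : ∃ r ∈ p.primeCompl, ∀ x, algebraMap B (Localization.Away (f r)) (algebraMap A B x) = 0 →
      algebraMap A (Localization.Away (a r)) x = 0 := by
    rcases hk with hdom | hfp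
    · refine ⟨1, p.primeCompl.one_mem, fun x hx => ?_⟩
      obtain ⟨t, ht, e⟩ := hker 1 x hx p.primeCompl.one_mem
      rw [(mul_eq_zero.1 e).resolve_left fun h => ht (h ▸ p.zero_mem), map_zero]
    let Aa := Localization.Away (a 1)
    let Bf := Localization.Away (f 1)
    letI : Algebra Aa Bf := (away (hdv 1)).toAlgebra
    haveI : IsScalarTower A Aa Bf := IsScalarTower.of_algebraMap_eq fun x => by
      rw [IsScalarTower.algebraMap_apply A B Bf, RingHom.algebraMap_toAlgebra, away_algebraMap]
    haveI : Algebra.FinitePresentation B Bf := IsLocalization.Away.finitePresentation (f 1)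
    haveI : Algebra.FinitePresentation A Bf := Algebra.FinitePresentation.trans A B Bf
    haveI : Algebra.FinitePresentation A Aa := IsLocalization.Away.finitePresentation (a 1)
    haveI : Algebra.FinitePresentation Aa Bf := Algebra.FinitePresentation.of_restrict_scalars_finitePresentation A Aa Bf
    obtain ⟨K, hK⟩ := Algebra.FinitePresentation.ker_fG_of_surjective (R := Aa) (Algebra.ofId Aa Bf) (surj 1)
    have hkill : ∀ y : Aa, y ∈ K → ∃ t, t ∉ p ∧ algebraMap A Aa t * y = 0 := fun y hy => by
      have h0 : away (hdv 1) y = 0 := by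
        have := hK ▸ Ideal.subset_span hy
        exact RingHom.mem_ker.1 this
      obtain ⟨x, ⟨_, m, rfl⟩, rfl⟩ := IsLocalization.exists_mk'_eq (Submonoid.powers (a 1)) y
      have h1 : algebraMap B Bf (algebraMap A B x) = 0 := by
        rw [← away_algebraMap (hdv 1), ← IsLocalization.mk'_spec Aa x (⟨(a 1) ^ m, m, rfl⟩ : Submonoid.powers (a 1)), map_mul, h0, zero_mul]
      obtain ⟨t, ht, e⟩ := hker 1 x h1 p.primeCompl.one_mem
      exact ⟨t, ht, by rw [IsLocalization.mul_mk'_eq_mk'_of_mul, e, IsLocalization.mk'_zero]⟩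
    choose t ht hkt using hkill
    let r := ∏ y : K, t y.1 y.2
    have hr : r ∈ p.primeCompl := Submonoid.prod_mem _ fun y _ => ht y.1 y.2
    refine ⟨r, hr, fun x hx => ?_⟩
    obtain ⟨⟨_, m, rfl⟩, hm⟩ := (IsLocalization.map_eq_zero_iff (Submonoid.powers (f r)) _ _).1 hx
    have h1 : away (hdv 1) (algebraMap A Aa (r ^ m * x)) = 0 := by
      rw [away_algebraMap, IsLocalization.map_eq_zero_iff (Submonoid.powers (f 1))]
      refine ⟨⟨f 1 ^ m, m, rfl⟩, ?_⟩
      have e : f r ^ m = f 1 ^ m * algebraMap A B (r ^ m) := by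
        rw [map_pow, ← mul_pow]
        congr 1
        simp only [a, f, map_mul, map_one]; ring
      change f 1 ^ m * algebraMap A B (r ^ m * x) = 0
      change f r ^ m * algebraMap A B x = 0 at hm
      rw [map_mul, ← mul_assoc, ← e, hm]
    have h2 : algebraMap A Aa (r ^ m * x) ∈ Ideal.span (K : Set Aa) := hK.symm ▸ RingHom.mem_ker.2 h1
    have h3 : algebraMap A Aa r * algebraMap A Aa (r ^ m * x) = 0 := by
      refine Submodule.span_induction (p := fun y _ => algebraMap A Aa r * y = 0) (fun y hy => ?_) (mul_zero _)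
        (fun y z _ _ hy hz => by rw [mul_add, hy, hz, add_zero])
        (fun s y _ hy => by rw [smul_eq_mul, mul_left_comm, hy, mul_zero]) h2
      obtain ⟨d, hd⟩ := Finset.dvd_prod_of_mem (fun y : K => t y.1 y.2) (Finset.mem_univ (⟨y, hy⟩ : K))
      rw [show r = t y hy * d from hd, map_mul, mul_comm (algebraMap A Aa (t y hy)), mul_assoc, hkt, mul_zero]
    rw [← map_mul] at h3
    obtain ⟨⟨_, l, rfl⟩, hl⟩ := (IsLocalization.map_eq_zero_iff (Submonoid.powers (a 1)) _ _).1 h3
    refine (IsLocalization.map_eq_zero_iff (Submonoid.powers (a r)) _ _).2 ⟨⟨a r ^ (l + (1 + m)), _, rfl⟩, ?_⟩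
    show (a0 * c * r) ^ (l + (1 + m)) * x = 0
    calc (a0 * c * r) ^ (l + (1 + m)) * x
        = ((a0 * c) ^ (1 + m) * r ^ l) * ((a0 * c * 1) ^ l * (r * (r ^ m * x))) := by ring
      _ = 0 := by rw [show (a0 * c * 1) ^ l * (r * (r ^ m * x)) = 0 from hl, mul_zero]
  refine ⟨a r, f r, hdv r, hfq r hr, (injective_iff_map_eq_zero _).2 fun y hy => ?_, surj r⟩
  obtain ⟨x, ⟨_, m, rfl⟩, rfl⟩ := IsLocalization.exists_mk'_eq (Submonoid.powers (a r)) y
  have h1 : algebraMap B (Localization.Away (f r)) (algebraMap A B x) = 0 := by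
    rw [← away_algebraMap (hdv r), ← IsLocalization.mk'_spec (Localization.Away (a r)) x (⟨(a r) ^ m, m, rfl⟩ : Submonoid.powers (a r)),
      map_mul, hy, zero_mul]
  refine (IsLocalization.map_units (Localization.Away (a r)) (⟨(a r) ^ m, m, rfl⟩ : Submonoid.powers (a r))).mul_right_eq_zero.1 ?_
  rw [mul_comm, IsLocalization.mk'_spec]
  exact hinj x h1

end Ring

/-- A morphism inducing an isomorphism of local rings at a point is an open immersion near it, if it is of finite
type with integral target or of finite presentation. -/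
theorem exists_openImmersion_nhd_Spec {A B : CommRingCat.{u}} (φ : A ⟶ B) [LocallyOfFiniteType (Spec.map φ)]
    (u : Spec B) [IsIso ((Spec.map φ).stalkMap u)]
    (hk : IsDomain A ∨ LocallyOfFinitePresentation (Spec.map φ)) :
    ∃ (O : Scheme.{u}) (i : O ⟶ Spec B), IsOpenImmersion i ∧ IsOpenImmersion (i ≫ Spec.map φ) ∧ u ∈ Set.range i := by
  letI := φ.hom.toAlgebra
  haveI : Algebra.FiniteType A B := (HasRingHomProperty.Spec_iff (P := @LocallyOfFiniteType)).1 inferInstance
  have H : Function.Bijective (Localization.localRingHom (u.asIdeal.comap (algebraMap A B)) u.asIdeal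
      (algebraMap A B) rfl) := by
    have h : IsIso (CommRingCat.ofHom <| Localization.localRingHom
        (u.asIdeal.comap (algebraMap A B)) u.asIdeal (algebraMap A B) rfl) :=
      ((MorphismProperty.isomorphisms CommRingCat).arrow_mk_iso_iff (Scheme.arrowStalkMapSpecIso φ u)).1
        (‹IsIso ((Spec.map φ).stalkMap u)›)
    exact (ConcreteCategory.isIso_iff_bijective _).1 h
  obtain ⟨a, f, h, hf, hb⟩ := exists_away_bijective u.asIdeal H
    (hk.imp id fun h => (HasRingHomProperty.Spec_iff (P := @LocallyOfFinitePresentation)).1 h)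
  haveI : IsIso (CommRingCat.ofHom (away h)) := (ConcreteCategory.isIso_iff_bijective _).2 hb
  haveI h1 : IsOpenImmersion (Spec.map (CommRingCat.ofHom (algebraMap B (Localization.Away f)))) :=
    IsOpenImmersion.of_isLocalization f
  haveI h2 : IsOpenImmersion (Spec.map (CommRingCat.ofHom (algebraMap A (Localization.Away a)))) :=
    IsOpenImmersion.of_isLocalization a
  refine ⟨_, Spec.map (CommRingCat.ofHom (algebraMap B (Localization.Away f))), h1, ?_, ?_⟩
  · have e : Spec.map (CommRingCat.ofHom (algebraMap B (Localization.Away f))) ≫ Spec.map φ =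
        Spec.map (CommRingCat.ofHom (away h)) ≫ Spec.map (CommRingCat.ofHom (algebraMap A (Localization.Away a))) := by
      rw [← Spec.map_comp, ← Spec.map_comp]
      refine congrArg Spec.map (CommRingCat.hom_ext (RingHom.ext fun x => ?_))
      exact (away_algebraMap h x).symm
    rw [e]
    infer_instance
  · have := PrimeSpectrum.localization_away_comap_range (Localization.Away f) f
    exact this ▸ hf

/-- A morphism inducing an isomorphism of local rings at a point is an open immersion near it. -/
theorem exists_openImmersion_nhd {U W : Scheme.{u}} (g : U ⟶ W) [IsAffine U] [IsAffine W] [LocallyOfFiniteType g]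
    (u : U) [IsIso (g.stalkMap u)] (hk : IsIntegral W ∨ LocallyOfFinitePresentation g) :
    ∃ (O : Scheme.{u}) (i : O ⟶ U), IsOpenImmersion i ∧ IsOpenImmersion (i ≫ g) ∧ u ∈ Set.range i := by
  have e : Spec.map g.appTop = U.isoSpec.inv ≫ g ≫ W.isoSpec.hom := by
    rw [← Scheme.isoSpec_hom_naturality, Iso.inv_hom_id_assoc]
  haveI : LocallyOfFiniteType (Spec.map g.appTop) := by rw [e]; infer_instance
  let u' := U.isoSpec.hom u
  haveI : IsIso ((Spec.map g.appTop).stalkMap u') := by
    have key : ∀ f : Spec Γ(U, ⊤) ⟶ Spec Γ(W, ⊤), f = U.isoSpec.inv ≫ g ≫ W.isoSpec.hom → IsIso (f.stalkMap u') := by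
      rintro _ rfl
      have hu : U.isoSpec.inv u' = u := by rw [← Scheme.Hom.comp_apply, Iso.hom_inv_id]; rfl
      haveI : IsIso ((g ≫ W.isoSpec.hom).stalkMap (U.isoSpec.inv u')) := by
        rw [hu, Scheme.Hom.stalkMap_comp]; infer_instance
      rw [Scheme.Hom.stalkMap_comp]
      infer_instance
    exact key _ e
  have hk' : IsDomain ↥Γ(W, ⊤) ∨ LocallyOfFinitePresentation (Spec.map g.appTop) := hk.imp
    (fun h => by
      haveI := h
      haveI : Nonempty (⊤ : W.Opens) := ⟨⟨g u, trivial⟩⟩
      exact IsIntegral.component_integral ⊤) fun h => by haveI := h; rw [e]; infer_instance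
  obtain ⟨O, i, hi, hig, hu⟩ := exists_openImmersion_nhd_Spec g.appTop u' hk'
  refine ⟨O, i ≫ U.isoSpec.inv, inferInstance, ?_, ?_⟩
  · have : (i ≫ U.isoSpec.inv) ≫ g = (i ≫ Spec.map g.appTop) ≫ W.isoSpec.inv := by rw [e]; simp
    rw [this]; infer_instance
  · obtain ⟨o, ho⟩ := hu
    exact ⟨o, by rw [Scheme.Hom.comp_apply, ho, ← Scheme.Hom.comp_apply, Iso.hom_inv_id]; rfl⟩

end BiratNormLib
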