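import Groth.Agent.BiratNormLib.BaseChange
import Groth.Agent.BiratNormLib.OpenIso
import Groth.Agent.AlgSpLib.OpenGlue
import Groth.Agent.AlgSpLib.Coprod
import Groth.Agent.AlgSpLib.Qc
import Groth.Agent.AlgSpLib.UnivClosed
import Mathlib.RingTheory.Ideal.MinimalPrime.Localization
/-!
# Birational morphisms are isomorphisms over dense opens
-/

set_option autoImplicit false
set_option linter.all false
set_option backward.isDefEq.respectTransparency false
set_option backward.isDefEq.respectTransparency.types false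

noncomputable section

universe u

open CategoryTheory CategoryTheory.Limits AlgebraicGeometry AlgSp AlgSpLib TopologicalSpace Topology

namespace BiratNormLib

variable {S : Scheme.{u}}

theorem injective_ofPt_of_openImmersion {X : Sp S} {T : Over S} {b : (yon S).obj T ⟶ X}
    (hb : RepWith @IsOpenImmersion b) : Function.Injective (Points.ofPt b) := by
  haveI : Mono b := mono_of_repWith (fun g (_ : IsOpenImmersion g) => (inferInstance : Mono g)) hb
  rw [ofPt_comp_ofScheme]
  exact (injective_map_of_mono b).comp (Points.schemeHomeo T).injective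

theorem repWith_etale_of_openImmersion {F G : Sp S} {a : F ⟶ G} (ha : RepWith @IsOpenImmersion a) :
    RepWith @Etale a :=
  repWith_mono (fun _ _ g (_ : IsOpenImmersion g) => (inferInstance : Etale g)) ha

theorem isOpenEmbedding_ofPt {X : Sp S} {T : Over S} {b : (yon S).obj T ⟶ X}
    (hb : RepWith @IsOpenImmersion b) : IsOpenEmbedding (Points.ofPt b) :=
  .of_continuous_injective_isOpenMap (Points.continuous_ofPt b) (injective_ofPt_of_openImmersion hb)
    (isOpenMap_ofPt (repWith_etale_of_openImmersion hb))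

/-- A point outside the closure of the generic points other than `y` is generalized only by `y`. -/
theorem exists_open_nhd_generic {α : Type u} [TopologicalSpace α] [QuasiSober α] [T0Space α]
    (hf : (genericPoints α).Finite) {y : α} (hy : y ∈ genericPoints α) :
    ∃ N : Set α, IsOpen N ∧ y ∈ N ∧ ∀ z ∈ N, ∀ y' ∈ genericPoints α, y' ⤳ z → y' = y := by
  refine ⟨(⋃ y' ∈ genericPoints α \ {y}, closure {y'})ᶜ,
    ((hf.sdiff).isClosed_biUnion fun _ _ => isClosed_closure).isOpen_compl, fun h => ?_, fun z hz y' hy' hs => ?_⟩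
  · obtain ⟨y', hy', hs⟩ := Set.mem_iUnion₂.1 h
    exact hy'.2 (mem_genericPoints_iff.1 hy y' (specializes_iff_mem_closure.2 hs))
  · by_contra hne
    exact hz (Set.mem_iUnion₂.2 ⟨y', ⟨hy', hne⟩, specializes_iff_mem_closure.1 hs⟩)

/-- Near a generic point a birational morphism of finite type onto a reduced space, or of finite presentation,
identifies open subschemes. -/
theorem exists_local_iso {X Y : AlgSp.Space S} (f : X ⟶ Y) (hX : IsDecent X.obj) (hY : IsDecent Y.obj)
    (hYf : (irreducibleComponents (Points Y.obj)).Finite) (hf : W4stk3decentspacesp2.IsBirational f.hom)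
    (h : (LocP @LocallyOfFiniteType f.hom ∧ IsReducedSp Y.obj) ∨ LocP @LocallyOfFinitePresentation f.hom)
    {x : Points X.obj} (hx : x ∈ genericPoints (Points X.obj)) :
    ∃ (M : Over S) (a : (yon S).obj M ⟶ X.obj) (b : (yon S).obj M ⟶ Y.obj), RepWith @IsOpenImmersion a ∧
      RepWith @IsOpenImmersion b ∧ a ≫ f.hom = b ∧ x ∈ Set.range (Points.ofPt a) ∧
      ∀ z ∈ Set.range (Points.ofPt b), ∀ y' ∈ genericPoints (Points Y.obj), y' ⤳ z → y' = Points.map f.hom x := by
  haveI := SpectralQuot.quasiSober_of_decent Y hY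
  haveI := t0Space_points Y.property hY
  have hy := hf.bijOn.mapsTo hx
  obtain ⟨N, hN, hyN, hNy⟩ := exists_open_nhd_generic (finite_irreducibleComponents_iff.1 hYf) hy
  obtain ⟨U₀, W₀, a₀, b₀, g₀, u₀, ha₀, hb₀, e₀, hu₀, hst⟩ := hf.stalkIso x hx
  have hgu : Points.ofPt b₀ (g₀.left u₀) = Points.map f.hom x := by
    rw [← ofPt_yon_comp, ← e₀, ← Points.map_ofPt, hu₀]
  obtain ⟨A, hA, huA, hAN⟩ := exists_isAffineOpen_mem_and_subset
    (U := ⟨Points.ofPt b₀ ⁻¹' N, hN.preimage (Points.continuous_ofPt b₀)⟩) (x := g₀.left u₀)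
    (show Points.ofPt b₀ (g₀.left u₀) ∈ N by rw [hgu]; exact hyN)
  obtain ⟨C, hC, huC, hCA⟩ := exists_isAffineOpen_mem_and_subset (U := g₀.left ⁻¹ᵁ A) (x := u₀) huA
  let W : Over S := Over.mk (A.ι ≫ W₀.hom)
  let jA : W ⟶ W₀ := Over.homMk A.ι rfl
  let U : Over S := Over.mk (C.ι ≫ U₀.hom)
  let jC : U ⟶ U₀ := Over.homMk C.ι rfl
  haveI : IsAffine W.left := hA
  haveI : IsAffine U.left := hC
  haveI : IsOpenImmersion jA.left := inferInstanceAs (IsOpenImmersion A.ι)
  haveI : IsOpenImmersion jC.left := inferInstanceAs (IsOpenImmersion C.ι)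
  let g : U ⟶ W := Over.homMk (IsOpenImmersion.lift A.ι (C.ι ≫ g₀.left) (by
    rintro _ ⟨z, rfl⟩
    exact ⟨⟨g₀.left z.1, hCA z.2⟩, rfl⟩)) (by
    show IsOpenImmersion.lift A.ι (C.ι ≫ g₀.left) _ ≫ A.ι ≫ W₀.hom = C.ι ≫ U₀.hom
    rw [IsOpenImmersion.lift_fac_assoc, Category.assoc, Over.w])
  have hg : g ≫ jA = jC ≫ g₀ := Over.OverMorphism.ext (IsOpenImmersion.lift_fac _ _ _)
  let a := (yon S).map jC ≫ a₀
  let b := (yon S).map jA ≫ b₀
  have ha : RepWith @IsOpenImmersion a :=
    repWith_comp ((repWith_yon_map_iff (P := (@IsOpenImmersion : MorphismProperty Scheme.{u})) jC).2 inferInstance) ha₀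
  have hb : RepWith @IsOpenImmersion b :=
    repWith_comp ((repWith_yon_map_iff (P := (@IsOpenImmersion : MorphismProperty Scheme.{u})) jA).2 inferInstance) hb₀
  have e : a ≫ f.hom = (yon S).map g ≫ b := by
    simp only [a, b, Category.assoc, e₀]
    rw [← Functor.map_comp_assoc, ← Functor.map_comp_assoc, hg]
  let u : U.left := ⟨u₀, huC⟩
  have hu : Points.ofPt a u = x := by rw [ofPt_yon_comp]; exact hu₀
  haveI : IsIso (g.left.stalkMap u) := by
    haveI : IsIso ((g.left ≫ jA.left).stalkMap u) := by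
      have key : ∀ f₁ : U.left ⟶ W₀.left, f₁ = jC.left ≫ g₀.left → IsIso (f₁.stalkMap u) := by
        rintro _ rfl
        haveI : IsIso (g₀.left.stalkMap (jC.left u)) := hst
        rw [Scheme.Hom.stalkMap_comp]; infer_instance
      exact key _ (congrArg Over.Hom.left hg)
    haveI : IsIso (jA.left.stalkMap (g.left u) ≫ g.left.stalkMap u) := by
      rw [← Scheme.Hom.stalkMap_comp]; infer_instance
    exact IsIso.of_isIso_comp_left (jA.left.stalkMap (g.left u)) _
  have hbN : ∀ t, Points.ofPt b t ∈ N := fun t => by rw [ofPt_yon_comp]; exact hAN t.2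
  have hk : IsIntegral W.left ∨ LocallyOfFinitePresentation g.left := by
    rcases h with ⟨-, hr⟩ | h
    · refine Or.inl ?_
      haveI : IsReduced W.left := isReduced_of_chart hr (repWith_etale_of_openImmersion hb)
      have hw : ∀ t : W.left, g.left u ⤳ t := fun t => by
        obtain ⟨y', hy', hs⟩ := exists_generic_generalization (Points.ofPt b t)
        rw [hNy _ (hbN t) y' hy' hs, ← hu, Points.map_ofPt, e, ofPt_yon_comp] at hs
        exact (isOpenEmbedding_ofPt hb).isInducing.specializes_iff.1 hs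
      haveI : IrreducibleSpace W.left := by
        rw [irreducibleSpace_def, Set.top_eq_univ]
        have h : (Set.univ : Set W.left) = closure {g.left u} :=
          (Set.eq_univ_of_forall fun t => specializes_iff_mem_closure.1 (hw t)).symm
        rw [h]
        exact isIrreducible_singleton.closure
      exact isIntegral_of_irreducibleSpace_of_isReduced W.left
    · exact Or.inr (h a b g (repWith_etale_of_openImmersion ha) (repWith_etale_of_openImmersion hb) e)
  haveI : LocallyOfFiniteType g.left := by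
    rcases h with ⟨h, -⟩ | h
    · exact h a b g (repWith_etale_of_openImmersion ha) (repWith_etale_of_openImmersion hb) e
    · haveI : LocallyOfFinitePresentation g.left :=
        h a b g (repWith_etale_of_openImmersion ha) (repWith_etale_of_openImmersion hb) e
      infer_instance
  obtain ⟨O, i, hi, hig, ⟨o, ho⟩⟩ := exists_openImmersion_nhd g.left u hk
  let M : Over S := Over.mk (i ≫ U.hom)
  let jM : M ⟶ U := Over.homMk i rfl
  refine ⟨M, (yon S).map jM ≫ a, (yon S).map (jM ≫ g) ≫ b,
    repWith_comp ((repWith_yon_map_iff (P := (@IsOpenImmersion : MorphismProperty Scheme.{u})) jM).2 hi) ha,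
    repWith_comp ((repWith_yon_map_iff (P := (@IsOpenImmersion : MorphismProperty Scheme.{u})) (jM ≫ g)).2 hig) hb,
    by rw [Category.assoc, e, Functor.map_comp_assoc], ⟨o, ?_⟩, ?_⟩
  · rw [ofPt_yon_comp, show jM.left o = u from ho, hu]
  · rintro _ ⟨t, rfl⟩
    refine hNy _ ?_
    rw [ofPt_yon_comp]
    exact hbN _

/-- The image of a closed subset of an affine scheme contains the minimal points of its closure. -/
theorem mem_image_of_mem_closure {E M : Scheme.{u}} [IsAffine E] [IsAffine M] (ψ : E ⟶ M) {C : Set E}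
    (hC : IsClosed C) {m : M} (hm : ∀ w, w ⤳ m → w = m) (h : m ∈ closure (ψ '' C)) : m ∈ ψ '' C := by
  have e : ∀ z, M.isoSpec.hom (ψ z) = Spec.map ψ.appTop (E.isoSpec.hom z) := fun z => by
    rw [← Scheme.Hom.comp_apply, ← Scheme.Hom.comp_apply, Scheme.isoSpec_hom_naturality]
  let C' : Set (Spec Γ(E, ⊤)) := E.isoSpec.hom '' C
  obtain ⟨I, hI⟩ := (PrimeSpectrum.isClosed_iff_zeroLocus_ideal C').1 (E.isoSpec.hom.homeomorph.isClosedMap C hC)
  let φ := (Ideal.Quotient.mk I).comp ψ.appTop.hom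
  have hrange : ∀ p : Spec Γ(M, ⊤), p ∈ Spec.map ψ.appTop '' C' ↔ ∃ q, PrimeSpectrum.comap φ q = p := fun p => by
    constructor
    · rintro ⟨z, hz, rfl⟩
      rw [hI] at hz
      have hzI : z ∈ Set.range (PrimeSpectrum.comap (Ideal.Quotient.mk I)) := by
        rw [_root_.range_comap_of_surjective _ _ Ideal.Quotient.mk_surjective, Ideal.mk_ker]
        exact hz
      obtain ⟨q, rfl⟩ := hzI
      exact ⟨q, PrimeSpectrum.ext rfl⟩
    · rintro ⟨q, rfl⟩
      refine ⟨PrimeSpectrum.comap (Ideal.Quotient.mk I) q, ?_, PrimeSpectrum.ext rfl⟩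
      rw [hI]
      intro x hx
      show Ideal.Quotient.mk I x ∈ q.asIdeal
      rw [Ideal.Quotient.eq_zero_iff_mem.2 hx]
      exact q.asIdeal.zero_mem
  let p := M.isoSpec.hom m
  have hp : p ∈ closure (Set.range (PrimeSpectrum.comap φ)) := by
    have h2 := image_closure_subset_closure_image M.isoSpec.hom.continuous ⟨m, h, rfl⟩
    refine closure_mono ?_ h2
    rintro _ ⟨_, ⟨z, hz, rfl⟩, rfl⟩
    exact (hrange _).1 ⟨E.isoSpec.hom z, ⟨z, hz, rfl⟩, (e z).symm⟩
  rw [PrimeSpectrum.closure_range_comap] at hp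
  have hp' : p.asIdeal ∈ ((⊥ : Ideal _).comap φ).minimalPrimes := by
    refine ⟨⟨p.2, ?_⟩, fun q hq hqp => ?_⟩
    · rw [← RingHom.ker_eq_comap_bot]; exact hp
    · have := (isMax_iff_mem_minimalPrimes p).1 (isMax_of_isIso M.isoSpec.hom hm)
      exact this.2 ⟨hq.1, bot_le⟩ hqp
  obtain ⟨q, hq, -, hqe⟩ := Ideal.exists_comap_eq_of_mem_minimalPrimes φ p.asIdeal hp'
  obtain ⟨_, ⟨z, hz, rfl⟩, hze⟩ := (hrange p).2 ⟨⟨q, hq⟩, PrimeSpectrum.ext hqe⟩
  exact ⟨z, hz, M.isoSpec.hom.homeomorph.injective ((e z).trans hze)⟩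

/-- For a separated or quasi-compact morphism the identified open of the source can be taken to be a preimage. -/
theorem exists_local_iso_preimage {X Y : AlgSp.Space S} (f : X ⟶ Y) (hX : IsDecent X.obj) (hY : IsDecent Y.obj)
    (hYf : (irreducibleComponents (Points Y.obj)).Finite) (hf : W4stk3decentspacesp2.IsBirational f.hom)
    (h₁ : IsQuasiCompactMor f.hom ∨ IsSeparatedMor f.hom)
    (h : (LocP @LocallyOfFiniteType f.hom ∧ IsReducedSp Y.obj) ∨ LocP @LocallyOfFinitePresentation f.hom)
    {x : Points X.obj} (hx : x ∈ genericPoints (Points X.obj)) :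
    ∃ (M : Over S) (a : (yon S).obj M ⟶ X.obj) (b : (yon S).obj M ⟶ Y.obj), RepWith @IsOpenImmersion a ∧
      RepWith @IsOpenImmersion b ∧ a ≫ f.hom = b ∧ x ∈ Set.range (Points.ofPt a) ∧
      (∀ z ∈ Set.range (Points.ofPt b), ∀ y' ∈ genericPoints (Points Y.obj), y' ⤳ z → y' = Points.map f.hom x) ∧
      Points.map f.hom ⁻¹' Set.range (Points.ofPt b) ⊆ Set.range (Points.ofPt a) := by
  haveI := SpectralQuot.quasiSober_of_decent X hX
  haveI := SpectralQuot.quasiSober_of_decent Y hY
  haveI := t0Space_points X.property hX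
  haveI := t0Space_points Y.property hY
  obtain ⟨M, a, b, ha, hb, e, hxa, hN⟩ := exists_local_iso f hX hY hYf hf h hx
  have hy := hf.bijOn.mapsTo hx
  rcases h₁ with hqc | hsep
  · -- quasi-compact case
    obtain ⟨m, hm⟩ := hxa
    have hmy : Points.ofPt b m = Points.map f.hom x := by rw [← hm, Points.map_ofPt, e]
    obtain ⟨A, hA, hmA, -⟩ := exists_isAffineOpen_mem_and_subset (U := ⊤) (x := m) trivial
    let M0 : Over S := Over.mk (A.ι ≫ M.hom)
    let j : M0 ⟶ M := Over.homMk A.ι rfl
    haveI : IsAffine M0.left := hA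
    have hj : RepWith @IsOpenImmersion ((yon S).map j) :=
      (repWith_yon_map_iff (P := (@IsOpenImmersion : MorphismProperty Scheme.{u})) j).2
        (inferInstanceAs (IsOpenImmersion A.ι))
    let b0 := (yon S).map j ≫ b
    have sqP := IsPullback.of_hasPullback f.hom b0
    obtain ⟨E, c, hE, hc, hcs⟩ := exists_affine_chart
      (hqc (IsAlgSpace.yon_obj M0) (isQuasiCompactSp_yon M0) b0 _ _ sqP)
    obtain ⟨ψ, hψ⟩ := (yon S).map_surjective (c ≫ pullback.snd f.hom b0)
    haveI := hE
    have heq : ∀ t, Points.map f.hom (Points.ofPt (c ≫ pullback.fst f.hom b0) t) = Points.ofPt b0 (ψ.left t) := fun t => by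
      rw [Points.map_ofPt, Category.assoc, sqP.w, ← Category.assoc, ← hψ, ofPt_yon_comp]
    let C : Set E.left := (Points.ofPt (c ≫ pullback.fst f.hom b0) ⁻¹' Set.range (Points.ofPt a))ᶜ
    have hC : IsClosed C :=
      ((isOpenEmbedding_ofPt ha).isOpen_range.preimage (Points.continuous_ofPt _)).isClosed_compl
    let m0 : M0.left := ⟨m, hmA⟩
    have hb0m : Points.ofPt b0 m0 = Points.map f.hom x := by rw [ofPt_yon_comp]; exact hmy
    have hm0 : ∀ w, w ⤳ m0 → w = m0 := by
      refine isMax_of_isMax_ofPt Y.property hY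
        (repWith_etale_of_openImmersion (repWith_comp hj hb)) ?_
      rw [hb0m]
      exact mem_genericPoints_iff.1 hy
    have hm0C : m0 ∉ closure (ψ.left '' C) := fun hmem => by
      obtain ⟨t, ht, htm⟩ := mem_image_of_mem_closure ψ.left hC hm0 hmem
      refine ht (show Points.ofPt (c ≫ pullback.fst f.hom b0) t ∈ Set.range (Points.ofPt a) from ?_)
      rw [eq_of_map_eq f hX hY hf hx (x' := Points.ofPt (c ≫ pullback.fst f.hom b0) t) (by rw [heq, htm, hb0m])]
      exact ⟨m, hm⟩
    let O : M0.left.Opens := ⟨(closure (ψ.left '' C))ᶜ, isClosed_closure.isOpen_compl⟩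
    let M1 : Over S := Over.mk (O.ι ≫ M0.hom)
    let j1 : M1 ⟶ M0 := Over.homMk O.ι rfl
    have hj1 : RepWith @IsOpenImmersion ((yon S).map (j1 ≫ j)) :=
      (repWith_yon_map_iff (P := (@IsOpenImmersion : MorphismProperty Scheme.{u})) (j1 ≫ j)).2 (by
        rw [Over.comp_left]; exact inferInstanceAs (IsOpenImmersion (O.ι ≫ A.ι)))
    refine ⟨M1, (yon S).map (j1 ≫ j) ≫ a, (yon S).map (j1 ≫ j) ≫ b, repWith_comp hj1 ha, repWith_comp hj1 hb,
      by rw [Category.assoc, e], ⟨⟨m0, hm0C⟩, by rw [ofPt_yon_comp]; exact hm⟩, fun z hz => hN z ?_, ?_⟩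
    · obtain ⟨t, rfl⟩ := hz
      rw [ofPt_yon_comp]; exact ⟨_, rfl⟩
    · rintro z ⟨t, ht⟩
      have ht' : Points.map f.hom z = Points.map b0 (Points.schemeHomeo M0 (j1.left t)) := by
        rw [← ht, ofPt_comp_ofScheme, Function.comp_apply, Functor.map_comp, Category.assoc, Points.map_comp,
          Points.map_yon_map_apply]
      obtain ⟨w, hw1, hw2⟩ := exists_point_isPullback sqP z _ ht'
      obtain ⟨s, rfl⟩ := surjective_ofPt hcs w
      rw [Points.map_ofPt] at hw1 hw2
      have hs : ψ.left s = j1.left t := (Points.schemeHomeo M0).injective (by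
        rw [← hw2, ← hψ, ofPt_comp_ofScheme, Function.comp_apply]
        exact (Points.map_yon_map_apply ψ s).symm)
      have hsC : s ∉ C := fun hsC => t.2 (subset_closure ⟨s, hsC, hs⟩)
      obtain ⟨m', hm'⟩ := not_not.1 hsC
      rw [hw1] at hm'
      -- the point lies on the smaller open
      have h2 : Points.ofPt b m' = Points.ofPt b ((j1 ≫ j).left t) := by
        rw [← ofPt_yon_comp (j1 ≫ j) b, ht, ← hm', Points.map_ofPt, e]
      exact ⟨t, by rw [ofPt_yon_comp, ← injective_ofPt_of_openImmersion hb h2]; exact hm'⟩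
  · -- separated case
    refine ⟨M, a, b, ha, hb, e, hxa, hN, ?_⟩
    have sqP := IsPullback.of_hasPullback f.hom b
    let s := pullback.lift a (𝟙 _) (by rw [Category.id_comp, e]) (f := f.hom) (g := b)
    have hs : RepWith @IsClosedImmersion s :=
      repWith_section (pullback.lift_snd _ _ _) (repWith_diagonal_of_isPullback sqP hsep)
    have hPalg := isAlgSpace_pullback X.property (IsAlgSpace.yon_obj M) Y.property f.hom b
    have hcl : IsClosed (Set.range (Points.map s)) := by
      rw [← Set.image_univ]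
      exact isClosed_image_of_closedImmersion (IsAlgSpace.yon_obj M) hPalg hs isClosed_univ
    have hfo : IsOpenMap (Points.map (pullback.fst f.hom b)) :=
      isOpenMap_map_of_isEtaleMor hPalg
        (isEtaleMor_of_openImmersion (repWith_of_isPullback sqP.flip hb))
    have hr : ∀ w, Points.map (pullback.fst f.hom b) (Points.map s w) = Points.map a w := fun w => by
      rw [← Points.map_comp, pullback.lift_fst]
    intro z hz
    obtain ⟨t, ht⟩ := hz
    obtain ⟨w, hw, -⟩ := exists_point_isPullback sqP z (Points.schemeHomeo M t) (by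
      rw [← ht, ofPt_comp_ofScheme]; rfl)
    by_cases hws : w ∈ Set.range (Points.map s)
    · obtain ⟨v, rfl⟩ := hws
      obtain ⟨v, rfl⟩ := (Points.schemeHomeo M).surjective v
      exact ⟨v, by rw [ofPt_comp_ofScheme, Function.comp_apply, ← hw, hr]⟩
    · exfalso
      obtain ⟨x'', hx'', hsp⟩ := exists_generic_generalization z
      obtain ⟨w', hw', hw'z⟩ : x'' ∈ Points.map (pullback.fst f.hom b) '' (Set.range (Points.map s))ᶜ :=
        hsp.mem_open (hfo _ hcl.isOpen_compl) ⟨w, hws, hw⟩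
      have hb' : Points.map f.hom x'' ∈ Set.range (Points.ofPt b) := by
        rw [← hw'z, ← Points.map_comp, sqP.w, Points.map_comp, range_ofPt]
        exact ⟨_, rfl⟩
      have hxx : x'' = x := hf.bijOn.injOn hx'' hx (hN _ hb' _ (hf.bijOn.mapsTo hx'') specializes_rfl)
      obtain ⟨m, hm⟩ := hxa
      refine hw' ⟨Points.schemeHomeo M m, ?_⟩
      haveI : Mono (pullback.fst f.hom b) :=
        mono_of_repWith (fun g (_ : IsOpenImmersion g) => (inferInstance : Mono g)) (repWith_of_isPullback sqP.flip hb)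
      refine injective_map_of_mono (pullback.fst f.hom b) ?_
      rw [hr, hw'z, hxx, ← hm, ofPt_comp_ofScheme]; rfl

/-- Disjoint identified open subschemes glue. -/
theorem exists_union {X Y : AlgSp.Space S} (f : X.obj ⟶ Y.obj) {ι : Type u} {M : ι → Over S}
    {a : ∀ i, (yon S).obj (M i) ⟶ X.obj} {b : ∀ i, (yon S).obj (M i) ⟶ Y.obj}
    (ha : ∀ i, RepWith @IsOpenImmersion (a i)) (hb : ∀ i, RepWith @IsOpenImmersion (b i))
    (e : ∀ i, a i ≫ f = b i)
    (hdisj : ∀ i j, i ≠ j → Disjoint (Set.range (Points.ofPt (b i))) (Set.range (Points.ofPt (b j)))) :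
    ∃ (V : Over S) (A : (yon S).obj V ⟶ X.obj) (B : (yon S).obj V ⟶ Y.obj), RepWith @IsOpenImmersion A ∧
      RepWith @IsOpenImmersion B ∧ A ≫ f = B ∧
      Set.range (Points.ofPt A) = ⋃ i, Set.range (Points.ofPt (a i)) ∧
      Set.range (Points.ofPt B) = ⋃ i, Set.range (Points.ofPt (b i)) := by
  let N : Set (Points Y.obj) := ⋃ i, Set.range (Points.ofPt (b i))
  have hN : IsOpen N := isOpen_iUnion fun i => (isOpenEmbedding_ofPt (hb i)).isOpen_range
  choose l hl using fun i => (exists_lift_openSub (W := N) (b i)).2 fun t => Set.mem_iUnion.2 ⟨i, t, rfl⟩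
  have hι := repWith_openSubι Y.obj hN
  haveI : Mono (openSubι Y.obj N) := mono_of_repWith (fun g (_ : IsOpenImmersion g) => (inferInstance : Mono g)) hι
  have hlo : ∀ i, RepWith @IsOpenImmersion (l i) := fun i => by
    refine repWith_of_isPullback (fst := 𝟙 _) (g := openSubι Y.obj N) (f := b i) ?_ (hb i)
    exact ⟨⟨by rw [Category.id_comp, hl]⟩, ⟨PullbackCone.IsLimit.mk _ (fun c => c.fst)
      (fun c => Category.comp_id _)
      (fun c => (cancel_mono (openSubι Y.obj N)).1 (by rw [Category.assoc, hl]; exact c.condition))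
      fun c m h1 _ => by simpa using h1⟩⟩
  obtain ⟨V, ⟨eV⟩⟩ := isRepSh_of_openCover l hlo fun T β t => by
    have ht : Points.map (openSubι Y.obj N) (Points.ofPt β t) ∈ N := by
      have := Set.mem_range_self (f := Points.map (openSubι Y.obj N)) (Points.ofPt β t)
      rwa [range_openSubι] at this
    obtain ⟨i, s, hs⟩ := Set.mem_iUnion.1 ht
    refine ⟨i, ?_⟩
    obtain ⟨w, -, hw⟩ := (ofPt_eq_ofPt_iff ((hlo i).rep.isPullback' β) s t).1 (injective_map_of_mono
      (openSubι Y.obj N) (by rw [Points.map_ofPt, hl, hs]))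
    exact ⟨w, hw⟩
  choose k hk using fun i => (yon S).map_surjective (l i ≫ eV.inv)
  have hko : ∀ i, IsOpenImmersion (k i).left := fun i =>
    (repWith_yon_map_iff (P := (@IsOpenImmersion : MorphismProperty Scheme.{u})) (k i)).1
      (by rw [hk]; exact repWith_comp (hlo i) (repWith_of_isIso eV.inv))
  let B := eV.hom ≫ openSubι Y.obj N
  have hB : RepWith @IsOpenImmersion B := repWith_comp (repWith_of_isIso eV.hom) hι
  have hkB : ∀ i, (yon S).map (k i) ≫ B = b i := fun i => by
    rw [hk, Category.assoc, Iso.inv_hom_id_assoc, hl]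
  have hrB : Set.range (Points.ofPt B) = N := by
    refine Set.Subset.antisymm ?_ ?_
    · rintro _ ⟨t, rfl⟩
      rw [← Points.map_ofPt]
      have := Set.mem_range_self (f := Points.map (openSubι Y.obj N)) (Points.ofPt eV.hom t)
      rwa [range_openSubι] at this
    · intro y hy
      obtain ⟨i, s, rfl⟩ := Set.mem_iUnion.1 hy
      exact ⟨(k i).left s, by rw [← ofPt_yon_comp, hkB]⟩
  have hcov : ∀ v : V.left, ∃ i, v ∈ Set.range (k i).left := fun v => by
    have h : Points.ofPt B v ∈ N := hrB ▸ ⟨v, rfl⟩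
    obtain ⟨i, s, hs⟩ := Set.mem_iUnion.1 h
    exact ⟨i, s, injective_ofPt_of_openImmersion hB (by rw [← ofPt_yon_comp, hkB, hs])⟩
  have hd : ∀ i j, i ≠ j → Disjoint (Set.range (k i).left) (Set.range (k j).left) := fun i j hij => by
    refine Set.disjoint_left.2 ?_
    rintro _ ⟨s, rfl⟩ ⟨s', hs'⟩
    exact Set.disjoint_left.1 (hdisj i j hij) ⟨s, rfl⟩
      ⟨s', by rw [← hkB i, ← hkB j, ofPt_yon_comp, ofPt_yon_comp, hs']⟩
  obtain ⟨hC⟩ := nonempty_isColimit_yon_cofan k hko hcov hd
  let A : (yon S).obj V ⟶ X.obj := Cofan.IsColimit.desc hC a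
  have hkA : ∀ i, (yon S).map (k i) ≫ A = a i := fun i => Cofan.IsColimit.fac hC a i
  have hAB : A ≫ f = B := Cofan.IsColimit.hom_ext hC _ _ fun i => by
    show (yon S).map (k i) ≫ A ≫ f = (yon S).map (k i) ≫ B
    rw [reassoc_of% hkA, e, hkB]
  haveI : Mono B := mono_of_repWith (fun g (_ : IsOpenImmersion g) => (inferInstance : Mono g)) hB
  haveI : Mono A := ⟨fun p q h => (cancel_mono B).1 (by rw [← hAB, reassoc_of% h])⟩
  have hAet : IsEtaleMor A := (isEtaleMor_iff_locP X.property).2
    (locP_of_cover (IsAlgSpace.yon_obj V) (fun i => IsAlgSpace.yon_obj (M i)) (fun i => (yon S).map (k i))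
      (fun i => isEtaleMor_of_openImmersion
        ((repWith_yon_map_iff (P := (@IsOpenImmersion : MorphismProperty Scheme.{u})) (k i)).2 (hko i)))
      (fun p => by
        obtain ⟨v, rfl⟩ := (Points.schemeHomeo V).surjective p
        obtain ⟨i, s, rfl⟩ := hcov v
        exact ⟨i, Points.schemeHomeo _ s, Points.map_yon_map_apply _ _⟩)
      fun i => (isEtaleMor_iff_locP X.property).1 (by rw [hkA]; exact isEtaleMor_of_openImmersion (ha i)))
  refine ⟨V, A, B, repWith_openImmersion_of_mono_etale (IsAlgSpace.yon_obj V) X.property A hAet, hB, hAB, ?_, hrB⟩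
  refine Set.Subset.antisymm ?_ ?_
  · rintro _ ⟨v, rfl⟩
    obtain ⟨i, s, rfl⟩ := hcov v
    exact Set.mem_iUnion.2 ⟨i, s, by rw [← hkA, ofPt_yon_comp]⟩
  · intro p hp
    obtain ⟨i, s, rfl⟩ := Set.mem_iUnion.1 hp
    exact ⟨(k i).left s, by rw [← ofPt_yon_comp, hkA]⟩

/-- Birational morphisms identify dense open subschemes. -/
theorem exists_dense_iso {X Y : AlgSp.Space S} (f : X ⟶ Y) (hX : IsDecent X.obj) (hY : IsDecent Y.obj)
    (hYf : (irreducibleComponents (Points Y.obj)).Finite) (hf : W4stk3decentspacesp2.IsBirational f.hom)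
    (h : (LocP @LocallyOfFiniteType f.hom ∧ IsReducedSp Y.obj) ∨ LocP @LocallyOfFinitePresentation f.hom) :
    ∃ (V : Over S) (A : (yon S).obj V ⟶ X.obj) (B : (yon S).obj V ⟶ Y.obj), RepWith @IsOpenImmersion A ∧
      RepWith @IsOpenImmersion B ∧ A ≫ f.hom = B ∧ Dense (Set.range (Points.ofPt A)) ∧
      Dense (Set.range (Points.ofPt B)) ∧
      ((IsQuasiCompactMor f.hom ∨ IsSeparatedMor f.hom) →
        Points.map f.hom ⁻¹' Set.range (Points.ofPt B) ⊆ Set.range (Points.ofPt A)) := by
  haveI := SpectralQuot.quasiSober_of_decent X hX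
  haveI := SpectralQuot.quasiSober_of_decent Y hY
  haveI := t0Space_points X.property hX
  haveI := t0Space_points Y.property hY
  classical
  have key : ∀ x : genericPoints (Points X.obj), ∃ (M : Over S) (a : (yon S).obj M ⟶ X.obj)
      (b : (yon S).obj M ⟶ Y.obj), RepWith @IsOpenImmersion a ∧
      RepWith @IsOpenImmersion b ∧ a ≫ f.hom = b ∧ x.1 ∈ Set.range (Points.ofPt a) ∧
      (∀ z ∈ Set.range (Points.ofPt b), ∀ y' ∈ genericPoints (Points Y.obj), y' ⤳ z → y' = Points.map f.hom x.1) ∧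
      ((IsQuasiCompactMor f.hom ∨ IsSeparatedMor f.hom) →
        Points.map f.hom ⁻¹' Set.range (Points.ofPt b) ⊆ Set.range (Points.ofPt a)) := fun x => by
    by_cases h₁ : IsQuasiCompactMor f.hom ∨ IsSeparatedMor f.hom
    · obtain ⟨M, a, b, h1, h2, h3, h4, h5, h6⟩ := exists_local_iso_preimage f hX hY hYf hf h₁ h x.2
      exact ⟨M, a, b, h1, h2, h3, h4, h5, fun _ => h6⟩
    · obtain ⟨M, a, b, h1, h2, h3, h4, h5⟩ := exists_local_iso f hX hY hYf hf h x.2
      exact ⟨M, a, b, h1, h2, h3, h4, h5, fun h' => (h₁ h').elim⟩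
  haveI : Finite (genericPoints (Points X.obj)) :=
    (hf.bijOn.finite_iff_finite.2 (finite_irreducibleComponents_iff.1 hYf)).to_subtype
  obtain ⟨n, ⟨eqv⟩⟩ := Finite.exists_equiv_fin (genericPoints (Points X.obj))
  let pt : ULift.{u} (Fin n) → genericPoints (Points X.obj) := fun i => eqv.symm i.down
  choose M a b ha hb e hxa hN hpre using fun i => key (pt i)
  have hpt : ∀ x : genericPoints (Points X.obj), ∃ i, pt i = x := fun x => ⟨⟨eqv x⟩, eqv.symm_apply_apply x⟩
  have hdisj : ∀ i j, i ≠ j → Disjoint (Set.range (Points.ofPt (b i))) (Set.range (Points.ofPt (b j))) :=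
    fun i j hij => Set.disjoint_left.2 fun z hi hj => hij (ULift.down_injective (eqv.symm.injective
      (Subtype.ext (hf.bijOn.injOn (pt i).2 (pt j).2 (by
        obtain ⟨y', hy', hs⟩ := exists_generic_generalization z
        rw [← hN i z hi y' hy' hs, ← hN j z hj y' hy' hs])))))
  obtain ⟨V, A, B, hA, hB, hAB, hrA, hrB⟩ := exists_union f.hom ha hb e hdisj
  refine ⟨V, A, B, hA, hB, hAB, ?_, ?_, fun h₁ z hz => ?_⟩
  · intro z
    obtain ⟨x, hx, hs⟩ := exists_generic_generalization z
    refine closure_mono (Set.singleton_subset_iff.2 ?_) (specializes_iff_mem_closure.1 hs)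
    rw [hrA]
    obtain ⟨i, hi⟩ := hpt ⟨x, hx⟩
    exact Set.mem_iUnion.2 ⟨i, (congrArg Subtype.val hi).subst (motive := fun q => q ∈ Set.range (Points.ofPt (a i))) (hxa i)⟩
  · intro z
    obtain ⟨y, hy, hs⟩ := exists_generic_generalization z
    obtain ⟨x, hx, rfl⟩ := hf.bijOn.surjOn hy
    refine closure_mono (Set.singleton_subset_iff.2 ?_) (specializes_iff_mem_closure.1 hs)
    obtain ⟨i, hi⟩ := hpt ⟨x, hx⟩
    obtain ⟨m, hm⟩ := hxa i
    rw [hrB]
    refine Set.mem_iUnion.2 ⟨i, m, ?_⟩
    rw [← e, ← Points.map_ofPt, hm, hi]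
  · rw [Set.mem_preimage, hrB] at hz
    obtain ⟨i, hi⟩ := Set.mem_iUnion.1 hz
    rw [hrA]
    exact Set.mem_iUnion.2 ⟨i, hpre i h₁ hi⟩

/-- A birational separated or quasi-compact morphism is an isomorphism over a dense open subscheme. -/
theorem isIso_snd_of_preimage {X Y : AlgSp.Space S} (f : X ⟶ Y) {V : Over S} {A : (yon S).obj V ⟶ X.obj}
    {B : (yon S).obj V ⟶ Y.obj} (hA : RepWith @IsOpenImmersion A) (hB : RepWith @IsOpenImmersion B)
    (e : A ≫ f.hom = B) (hpre : Points.map f.hom ⁻¹' Set.range (Points.ofPt B) ⊆ Set.range (Points.ofPt A))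
    {P : Sp S} {fst : P ⟶ X.obj} {snd : P ⟶ (yon S).obj V} (hP : IsPullback fst snd f.hom B) : IsIso snd := by
  have hPalg : IsAlgSpace P := isAlgSpace_of_isPullback X.property (IsAlgSpace.yon_obj V) Y.property hP
  let s := hP.lift A (𝟙 _) (by rw [Category.id_comp, e])
  have hs1 : s ≫ fst = A := hP.lift_fst _ _ _
  have hs2 : s ≫ snd = 𝟙 _ := hP.lift_snd _ _ _
  have hfst : RepWith @IsOpenImmersion fst := repWith_of_isPullback hP.flip hB
  haveI : Mono fst := mono_of_repWith (fun g (_ : IsOpenImmersion g) => (inferInstance : Mono g)) hfst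
  haveI : Mono s := ⟨fun p q h => by rw [← Category.comp_id p, ← hs2, reassoc_of% h, hs2, Category.comp_id]⟩
  have hsurj : IsSurjectiveMor s := fun z => by
    have hz : Points.map f.hom (Points.map fst z) ∈ Set.range (Points.ofPt B) := by
      rw [← Points.map_comp, hP.w, Points.map_comp, range_ofPt]; exact ⟨_, rfl⟩
    obtain ⟨v, hv⟩ := hpre hz
    refine ⟨Points.schemeHomeo V v, injective_map_of_mono fst ?_⟩
    rw [← Points.map_comp, hs1, ← hv, ofPt_comp_ofScheme]; rfl
  haveI : IsIso s := isIso_of_mono_etale_surjective (IsAlgSpace.yon_obj V) hPalg s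
    (isEtaleMor_of_comp hPalg (g := fst) (by rw [hs1]; exact isEtaleMor_of_openImmersion hA)
      (isEtaleMor_of_openImmersion hfst)) hsurj
  have : snd = inv s := by rw [← Category.id_comp snd, ← IsIso.inv_hom_id s, Category.assoc, hs2, Category.comp_id]
  rw [this]
  infer_instance

end BiratNormLib
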