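import Groth.Agent.BiratNormLib.Space
import Groth.Agent.AlgSpLib.PointMono
import Mathlib.AlgebraicGeometry.Morphisms.FormallyUnramified
/-!
# The fibres of birational morphisms over generic points
-/

set_option autoImplicit false
set_option linter.all false
set_option backward.isDefEq.respectTransparency false
set_option backward.isDefEq.respectTransparency.types false

noncomputable section

universe u

open CategoryTheory CategoryTheory.Limits AlgebraicGeometry AlgSp AlgSpLib TopologicalSpace

namespace BiratNormLib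

theorem isIntegral_residueFieldMap_of_etale {A B : Scheme.{u}} (f : A ⟶ B) [Etale f] (x : A) :
    (f.residueFieldMap x).hom.IsIntegral := by
  letI := (f.residueFieldMap x).hom.toAlgebra
  haveI : Algebra.IsSeparable (B.residueField (f x)) (A.residueField x) := inferInstance
  exact fun y => Algebra.IsIntegral.isIntegral y

theorem isIntegral_residueFieldMap_of_isIso_stalkMap {A B : Scheme.{u}} (f : A ⟶ B) (x : A) [IsIso (f.stalkMap x)] :
    (f.residueFieldMap x).hom.IsIntegral := by
  intro y
  obtain ⟨z, rfl⟩ := IsLocalRing.residue_surjective y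
  obtain ⟨w, rfl⟩ := (ConcreteCategory.bijective_of_isIso (f.stalkMap x)).2 z
  have : (f.residueFieldMap x).hom (B.residue (f x) w) = A.residue x ((f.stalkMap x).hom w) :=
    RingHom.congr_fun (congrArg CommRingCat.Hom.hom (Scheme.residue_residueFieldMap f x)) w
  rw [show IsLocalRing.residue _ ((f.stalkMap x).hom w) = A.residue x ((f.stalkMap x).hom w) from rfl, ← this]
  exact RingHom.isIntegralElem_map _

theorem isIntegral_residueFieldMap_congr {A B : Scheme.{u}} {f g : A ⟶ B} (e : f = g) (x : A)
    (h : (f.residueFieldMap x).hom.IsIntegral) : (g.residueFieldMap x).hom.IsIntegral := by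
  subst e; exact h

theorem isIntegral_residueFieldMap_at {A B : Scheme.{u}} (f : A ⟶ B) {x y : A} (e : x = y)
    (h : (f.residueFieldMap x).hom.IsIntegral) : (f.residueFieldMap y).hom.IsIntegral := by
  subst e; exact h

variable {S : Scheme.{u}}

/-- The only point of the source over a generic point of the target is the generic one. -/
theorem eq_of_map_eq {X Y : AlgSp.Space S} (f : X ⟶ Y) (hX : IsDecent X.obj) (hY : IsDecent Y.obj)
    (hf : W4stk3decentspacesp2.IsBirational f.hom) {x x' : Points X.obj} (hx : x ∈ genericPoints (Points X.obj))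
    (e : Points.map f.hom x' = Points.map f.hom x) : x' = x := by
  haveI := SpectralQuot.quasiSober_of_decent X hX
  haveI := SpectralQuot.quasiSober_of_decent Y hY
  haveI := t0Space_points X.property hX
  haveI := t0Space_points Y.property hY
  have hy := hf.bijOn.mapsTo hx
  have hs : x ⤳ x' := by
    obtain ⟨x'', hx'', hs⟩ := exists_generic_generalization x'
    have h1 : Points.map f.hom x'' = Points.map f.hom x :=
      mem_genericPoints_iff.1 hy _ (e ▸ hs.map (Points.continuous_map f.hom))
    rwa [hf.bijOn.injOn hx'' hx h1] at hs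
  obtain ⟨U, W, a, b, g, u, ha, hb, e₀, hu, hst⟩ := hf.stalkIso x hx
  -- a chart at the special point lying over the open subscheme of the target
  have hbW : Points.map f.hom x' = Points.map b (Points.schemeHomeo W (g.left u)) := by
    rw [e, ← hu, Points.map_ofPt, e₀, ofPt_yon_comp, ofPt_comp_ofScheme]; rfl
  have sq := IsPullback.of_hasPullback f.hom b
  obtain ⟨z, hz, -⟩ := exists_point_isPullback sq x' _ hbW
  obtain ⟨U1, c, hc, hcs⟩ := (isAlgSpace_pullback X.property (IsAlgSpace.yon_obj W) Y.property f.hom b).atlas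
  obtain ⟨h, hh⟩ := (yon S).map_surjective (c ≫ pullback.snd f.hom b)
  have hbe : RepWith @Etale b := repWith_mono (fun _ _ g (_ : IsOpenImmersion g) => (inferInstance : Etale g)) hb
  let a1 := c ≫ pullback.fst f.hom b
  have ha1 : RepWith @Etale a1 := repWith_comp hc (repWith_of_isPullback sq.flip hbe)
  have ea1 : a1 ≫ f.hom = (yon S).map h ≫ b := by rw [hh, Category.assoc, Category.assoc, pullback.condition]
  obtain ⟨p', hp'⟩ := surjective_ofPt hcs z
  have hp'x : Points.ofPt a1 p' = x' := by rw [← Points.map_ofPt, hp', hz]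
  obtain ⟨P₀, hP₀, -, hq₀⟩ := hX x
  obtain ⟨p, hp, hpx⟩ := exists_generalization_lift hs ⟨P₀, hP₀, hq₀⟩ ha1 hp'x
  haveI : Mono b := mono_of_repWith (fun g (_ : IsOpenImmersion g) => (inferInstance : Mono g)) hb
  have hinj : Function.Injective (Points.ofPt b) := by
    rw [ofPt_comp_ofScheme]
    exact (injective_map_of_mono b).comp (Points.schemeHomeo W).injective
  have key : ∀ t, Points.ofPt b (h.left t) = Points.map f.hom (Points.ofPt a1 t) := fun t => by
    rw [Points.map_ofPt, ea1, ofPt_yon_comp]
  have hpp : h.left p = h.left p' := hinj (by rw [key, key, hpx, hp'x, e])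
  -- comparison with the open subscheme of the source
  obtain ⟨R, rp, rU, sqR⟩ := exists_isPullback_yon a1 a ha1.rep
  obtain ⟨r, hrp, hrU⟩ := (ofPt_eq_ofPt_iff sqR p u).1 (hpx.trans hu.symm)
  haveI : Etale rU.left := etale_left (repWith_of_isPullback sqR ha1)
  haveI : IsOpenImmersion rp.left :=
    (repWith_yon_map_iff (P := (@IsOpenImmersion : MorphismProperty Scheme.{u})) rp).1 (repWith_of_isPullback sqR.flip ha)
  have ecomp : rU ≫ g = rp ≫ h := (yon S).map_injective ((cancel_mono b).1 (by
    rw [Functor.map_comp, Functor.map_comp, Category.assoc, Category.assoc, ← e₀, ← ea1, ← reassoc_of% sqR.w]))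
  have h1 : ((rU.left ≫ g.left).residueFieldMap r).hom.IsIntegral := by
    rw [Scheme.residueFieldMap_comp]
    haveI : IsIso (g.left.stalkMap u) := hst
    exact RingHom.IsIntegral.trans _ _
      (isIntegral_residueFieldMap_at g.left hrU.symm (isIntegral_residueFieldMap_of_isIso_stalkMap g.left u))
      (isIntegral_residueFieldMap_of_etale rU.left r)
  have h2 : ((rp.left ≫ h.left).residueFieldMap r).hom.IsIntegral :=
    isIntegral_residueFieldMap_congr (congrArg Over.Hom.left ecomp : rU.left ≫ g.left = rp.left ≫ h.left) r h1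
  have h3 : (h.left.residueFieldMap (rp.left r)).hom.IsIntegral := fun y => by
    obtain ⟨P, hPm, hPe⟩ := h2 ((rp.left.residueFieldMap r).hom y)
    refine ⟨P, hPm, (rp.left.residueFieldMap r).hom.injective ?_⟩
    rw [Scheme.residueFieldMap_comp, CommRingCat.hom_comp, ← Polynomial.hom_eval₂] at hPe
    rw [map_zero]; exact hPe
  have hpe : p = p' := eq_of_specializes_of_residue_integral h.left hp hpp (isIntegral_residueFieldMap_at h.left hrp h3)
  rw [← hp'x, ← hpe, hpx]

/-- The base change of a birational morphism to the local scheme at a generic point is an isomorphism. -/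
theorem isIso_baseChange_generic {X Y : AlgSp.Space S} (f : X ⟶ Y) (hX : IsDecent X.obj) (hY : IsDecent Y.obj)
    (hf : W4stk3decentspacesp2.IsBirational f.hom) {T : Over S} [IsAffine T.left] {γ : (yon S).obj T ⟶ Y.obj}
    {x : Points X.obj} (hx : x ∈ genericPoints (Points X.obj))
    (hγ : ∀ s, Points.ofPt γ s = Points.map f.hom x) {P : Sp S} {fst : P ⟶ X.obj} {snd : P ⟶ (yon S).obj T}
    (hP : IsPullback fst snd f.hom γ) : IsIso snd := by
  obtain ⟨U₀, W₀, a₀, b₀, g₀, u₀, ha₀, hb₀, e₀, hu₀, hst⟩ := hf.stalkIso x hx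
  obtain ⟨A, hA, huA, -⟩ := exists_isAffineOpen_mem_and_subset (U := ⊤) (x := g₀.left u₀) trivial
  obtain ⟨C, hC, huC, hCA⟩ := exists_isAffineOpen_mem_and_subset (U := g₀.left ⁻¹ᵁ A) (x := u₀) huA
  let W : Over S := Over.mk (A.ι ≫ W₀.hom)
  let jA : W ⟶ W₀ := Over.homMk A.ι rfl
  let U : Over S := Over.mk (C.ι ≫ U₀.hom)
  let jC : U ⟶ U₀ := Over.homMk C.ι rfl
  haveI : IsAffine W.left := hA
  haveI : IsAffine U.left := hC
  haveI : IsOpenImmersion jA.left := inferInstanceAs (IsOpenImmersion A.ι)
  haveI : IsOpenImmersion jC.left := inferInstanceAs (IsOpenImmersion C.ι)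
  let g : U ⟶ W := Over.homMk (IsOpenImmersion.lift A.ι (C.ι ≫ g₀.left) (by
    rintro _ ⟨z, rfl⟩
    exact ⟨⟨g₀.left z.1, hCA z.2⟩, rfl⟩)) (by
    show IsOpenImmersion.lift A.ι (C.ι ≫ g₀.left) _ ≫ A.ι ≫ W₀.hom = C.ι ≫ U₀.hom
    rw [IsOpenImmersion.lift_fac_assoc, Category.assoc, Over.w])
  have hg : g ≫ jA = jC ≫ g₀ := Over.OverMorphism.ext (IsOpenImmersion.lift_fac _ _ _)
  let a := (yon S).map jC ≫ a₀
  let b := (yon S).map jA ≫ b₀
  have ha : RepWith @IsOpenImmersion a :=
    repWith_comp ((repWith_yon_map_iff (P := (@IsOpenImmersion : MorphismProperty Scheme.{u})) jC).2 inferInstance) ha₀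
  have hb : RepWith @IsOpenImmersion b :=
    repWith_comp ((repWith_yon_map_iff (P := (@IsOpenImmersion : MorphismProperty Scheme.{u})) jA).2 inferInstance) hb₀
  have e : a ≫ f.hom = (yon S).map g ≫ b := by
    simp only [a, b, Category.assoc, e₀]
    rw [← Functor.map_comp_assoc, ← Functor.map_comp_assoc, hg]
  let u : U.left := ⟨u₀, huC⟩
  have hu : Points.ofPt a u = x := by rw [ofPt_yon_comp]; exact hu₀
  haveI : IsIso (g.left.stalkMap u) := by
    haveI : IsIso ((g.left ≫ jA.left).stalkMap u) := by
      have key : ∀ f₁ : U.left ⟶ W₀.left, f₁ = jC.left ≫ g₀.left → IsIso (f₁.stalkMap u) := by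
        rintro _ rfl
        haveI : IsIso (g₀.left.stalkMap (jC.left u)) := hst
        rw [Scheme.Hom.stalkMap_comp]; infer_instance
      exact key _ (congrArg Over.Hom.left hg)
    haveI : IsIso (jA.left.stalkMap (g.left u) ≫ g.left.stalkMap u) := by
      rw [← Scheme.Hom.stalkMap_comp]; infer_instance
    exact IsIso.of_isIso_comp_left (jA.left.stalkMap (g.left u)) _
  haveI : Mono a := mono_of_repWith (fun g (_ : IsOpenImmersion g) => (inferInstance : Mono g)) ha
  haveI : Mono b := mono_of_repWith (fun g (_ : IsOpenImmersion g) => (inferInstance : Mono g)) hb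
  have hinja : Function.Injective (Points.ofPt a) := by
    rw [ofPt_comp_ofScheme]; exact (injective_map_of_mono a).comp (Points.schemeHomeo U).injective
  have hinjb : Function.Injective (Points.ofPt b) := by
    rw [ofPt_comp_ofScheme]; exact (injective_map_of_mono b).comp (Points.schemeHomeo W).injective
  have hgu : Points.ofPt b (g.left u) = Points.map f.hom x := by
    rw [← ofPt_yon_comp, ← e, ← Points.map_ofPt, hu]
  -- the morphism to the open subscheme of the target
  let kW := hb.rep.snd γ
  haveI : IsOpenImmersion kW.left := hb.property γ _ _ (hb.rep.isPullback' γ)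
  haveI : Surjective kW.left := ⟨fun s => by
    obtain ⟨w, -, hw⟩ := (ofPt_eq_ofPt_iff (hb.rep.isPullback' γ) (g.left u) s).1 (hgu.trans (hγ s).symm)
    exact ⟨w, hw⟩⟩
  haveI : IsIso kW := by
    haveI : IsIso ((Over.forget S).map kW) := by
      haveI : Epi kW.left.base := (TopCat.epi_iff_surjective _).2 kW.left.surjective
      exact IsOpenImmersion.isIso kW.left
    exact isIso_of_reflects_iso kW (Over.forget S)
  let β : T ⟶ W := inv kW ≫ hb.rep.fst' γ
  have hβ : (yon S).map β ≫ b = γ := by
    rw [Functor.map_comp, Category.assoc, (hb.rep.isPullback' γ).w, ← Functor.map_comp_assoc,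
      IsIso.inv_hom_id, CategoryTheory.Functor.map_id, Category.id_comp]
  -- the fibre product is the fibre product of the open subschemes
  have hPalg : IsAlgSpace P := isAlgSpace_of_isPullback X.property (IsAlgSpace.yon_obj T) Y.property hP
  let k := pullback.snd a fst
  have sqa := IsPullback.of_hasPullback a fst
  have hk : RepWith @IsOpenImmersion k := repWith_of_isPullback sqa ha
  haveI : IsIso k := by
    haveI : Mono k := mono_of_repWith (fun g (_ : IsOpenImmersion g) => (inferInstance : Mono g)) hk
    refine isIso_of_mono_etale_surjective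
      (isAlgSpace_pullback (IsAlgSpace.yon_obj U) hPalg X.property a fst) hPalg k (isEtaleMor_of_openImmersion hk)
      fun p => ?_
    obtain ⟨s, hs⟩ := (Points.schemeHomeo T).surjective (Points.map snd p)
    have h1 : Points.map fst p = x := eq_of_map_eq f hX hY hf hx (by
      rw [← Points.map_comp, hP.w, Points.map_comp, ← hs, ← hγ s, ofPt_comp_ofScheme]; rfl)
    obtain ⟨w, -, hw⟩ := exists_point_isPullback sqa (Points.schemeHomeo U u) p (by
      rw [h1, ← hu, ofPt_comp_ofScheme]; rfl)
    exact ⟨w, hw⟩
  let l : P ⟶ (yon S).obj U := inv k ≫ pullback.fst a fst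
  have hl : l ≫ a = fst := by rw [Category.assoc, sqa.w, IsIso.inv_hom_id_assoc]
  have hlg : l ≫ (yon S).map g = snd ≫ (yon S).map β := (cancel_mono b).1 (by
    rw [Category.assoc, ← e, reassoc_of% hl, hP.w, Category.assoc, hβ])
  have sqU : IsPullback l snd ((yon S).map g) ((yon S).map β) := by
    refine ⟨⟨hlg⟩, ⟨PullbackCone.IsLimit.mk _
      (fun c => hP.lift (c.fst ≫ a) c.snd (by rw [Category.assoc, e, reassoc_of% c.condition, hβ]))
      (fun c => (cancel_mono a).1 (by rw [Category.assoc, hl, hP.lift_fst]))
      (fun c => hP.lift_snd _ _ _) fun c m h1 h2 => hP.hom_ext ?_ ?_⟩⟩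
    · rw [hP.lift_fst, ← hl, reassoc_of% h1]
    · rw [hP.lift_snd]; exact h2
  -- the scheme computation
  have hiso : IsIso (pullback.fst β.left g.left) := by
    refine isIso_fst_of_stalk g.left u (fun t ht => hinja ?_) β.left fun s => hinjb ?_
    · rw [hu]
      refine eq_of_map_eq f hX hY hf hx ?_
      rw [Points.map_ofPt, e, ofPt_yon_comp, ht, hgu]
    · rw [← ofPt_yon_comp, hβ, hγ, hgu]
  let Q := pullback β g
  haveI : IsIso (pullback.fst β g) := by
    haveI : IsIso ((Over.forget S).map (pullback.fst β g)) := by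
      show IsIso (pullback.fst β g).left
      rw [← (isPullback_left ((IsPullback.of_hasPullback β g).map (yon S))).isoPullback_hom_fst]
      infer_instance
    exact isIso_of_reflects_iso (pullback.fst β g) (Over.forget S)
  rw [← sqU.flip.isoIsPullback_hom_fst _ _ ((IsPullback.of_hasPullback β g).map (yon S))]
  infer_instance

end BiratNormLib
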