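import Mathlib.RingTheory.IntegralClosure.IntegrallyClosed
import Mathlib.RingTheory.Localization.AtPrime.Basic
import Mathlib.RingTheory.Localization.FractionRing
import Mathlib.RingTheory.Nilpotent.Lemmas
import Mathlib.RingTheory.Polynomial.ScaleRoots
import Mathlib.RingTheory.IntegralClosure.IsIntegral.Basic
import Mathlib.RingTheory.TensorProduct.Basic
import Mathlib.LinearAlgebra.Basis.VectorSpace
import Mathlib.RingTheory.Ideal.MinimalPrime.Basic
/-!
# Integral birational ring maps to reduced rings out of normal rings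
-/

set_option autoImplicit false
set_option linter.all false

universe u

open scoped TensorProduct

namespace BiratNormLib

variable {A B : Type u} [CommRing A] [CommRing B]

theorem isReduced_of_local_domains (hA : ∀ (m : Ideal A) [m.IsPrime], IsDomain (Localization.AtPrime m)) :
    IsReduced A := by
  refine ⟨fun a ha => ?_⟩
  by_contra hne
  obtain ⟨m, hm, hle⟩ := Ideal.exists_le_maximal (LinearMap.ker (LinearMap.toSpanSingleton A A a)) fun h => hne (by
    have : (1 : A) ∈ LinearMap.ker (LinearMap.toSpanSingleton A A a) := h ▸ Submodule.mem_top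
    simpa using this)
  haveI := hm.isPrime
  haveI := hA m
  have h0 : algebraMap A (Localization.AtPrime m) a = 0 := (ha.map (algebraMap A _)).eq_zero
  obtain ⟨⟨t, ht⟩, h⟩ := (IsLocalization.map_eq_zero_iff m.primeCompl _ a).1 h0
  exact ht (hle (by simpa using h))

/-- In a reduced ring an element of a minimal prime is killed outside it. -/
theorem exists_mul_eq_zero_of_minimal [IsReduced A] {p : Ideal A} (hp : p ∈ minimalPrimes A) {π : A} (hπ : π ∈ p) :
    ∃ t, t ∉ p ∧ t * π = 0 := by
  haveI : p.IsPrime := hp.1.1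
  let T : Submonoid A := p.primeCompl ⊔ Submonoid.powers π
  by_contra h
  push_neg at h
  have h0 : Disjoint ((⊥ : Ideal A) : Set A) (T : Set A) := Set.disjoint_left.2 fun x hx hxT => by
    obtain ⟨t, ht, _, ⟨n, rfl⟩, rfl⟩ := Submonoid.mem_sup.1 hxT
    have hx0 : t * π ^ n = 0 := hx
    exact h t ht (eq_zero_of_pow_eq_zero (n := n + 1) (by
      rw [show (t * π) ^ (n + 1) = (t * π ^ n) * (t ^ n * π) by ring, hx0, zero_mul]))
  obtain ⟨Q, hQ, -, hd⟩ := Ideal.exists_le_prime_disjoint ⊥ T h0
  have hQp : Q ≤ p := fun x hx => by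
    by_contra hxp
    exact Set.disjoint_left.1 hd hx (Submonoid.mem_sup_left hxp)
  exact Set.disjoint_left.1 hd (hp.2 ⟨hQ, bot_le⟩ hQp hπ) (Submonoid.mem_sup_right ⟨1, pow_one π⟩)

/-- If a field point over a minimal prime has one-point fibre with trivial residue extension, then the ring map is
surjective up to denominators there. -/
theorem generic_of_fibre [Algebra A B] [IsReduced A] {p : Ideal A} (hp : p ∈ minimalPrimes A) {k : Type u} [Field k]
    [Algebra A k] (hker : RingHom.ker (algebraMap A k) = p)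
    (hbij : Function.Bijective (Algebra.TensorProduct.includeLeftRingHom : k →+* k ⊗[A] B)) :
    (∀ a, algebraMap A B a = 0 → a ∈ p) ∧
      ∀ b, ∃ a s, s ∉ p ∧ algebraMap A B s * b = algebraMap A B a := by
  haveI : p.IsPrime := hp.1.1
  refine ⟨fun a ha => hker.le (RingHom.mem_ker.2 (hbij.1 ?_)), fun b => ?_⟩
  · simp only [map_zero, Algebra.TensorProduct.includeLeftRingHom_apply]
    rw [Algebra.algebraMap_eq_smul_one, TensorProduct.smul_tmul, ← Algebra.algebraMap_eq_smul_one, ha,
      TensorProduct.tmul_zero]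
  let Ap := Localization.AtPrime p
  have hz : ∀ π ∈ p, algebraMap A Ap π = 0 := fun π hπ => by
    obtain ⟨t, ht, e⟩ := exists_mul_eq_zero_of_minimal hp hπ
    exact (IsLocalization.map_eq_zero_iff p.primeCompl Ap π).2 ⟨⟨t, ht⟩, e⟩
  have hF : IsField Ap := by
    refine ⟨⟨0, 1, zero_ne_one⟩, mul_comm, fun {x} hx => ?_⟩
    obtain ⟨π, s, rfl⟩ := IsLocalization.exists_mk'_eq p.primeCompl x
    have hπ : π ∉ p := fun h => hx (by
      rw [IsLocalization.mk'_eq_mul_mk'_one, hz π h, zero_mul])
    exact isUnit_iff_exists_inv.1 (IsLocalization.AtPrime.isUnit_mk'_iff Ap p π s |>.2 hπ)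
  letI := hF.toField
  have hu : ∀ y : p.primeCompl, IsUnit (algebraMap A k y) := fun y =>
    (isUnit_iff_ne_zero.2 fun h => y.2 (hker.le (RingHom.mem_ker.2 h)))
  letI : Algebra Ap k := (IsLocalization.lift (M := p.primeCompl) (g := algebraMap A k) hu).toAlgebra
  haveI : IsScalarTower A Ap k := IsScalarTower.of_algebraMap_eq fun x => (IsLocalization.lift_eq hu x).symm
  obtain ⟨r, hr⟩ := LinearMap.exists_leftInverse_of_injective (Algebra.linearMap Ap k)
    (LinearMap.ker_eq_bot.2 (algebraMap Ap k).injective)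
  have hr1 : r 1 = 1 := by
    have := LinearMap.congr_fun hr 1
    simpa using this
  let M := Algebra.algebraMapSubmonoid B p.primeCompl
  let Bp := Localization M
  let φ : Ap →+* Bp := IsLocalization.map Bp (algebraMap A B)
    (show p.primeCompl ≤ M.comap (algebraMap A B) from fun x hx => ⟨x, hx, rfl⟩)
  have hφ : ∀ a, φ (algebraMap A Ap a) = algebraMap B Bp (algebraMap A B a) := fun a => IsLocalization.map_eq _ a
  let ψ : k ⊗[A] B →+ Bp := TensorProduct.liftAddHom
    { toFun := fun c => AddMonoidHom.mk' (fun b => φ (r c) * algebraMap B Bp b) fun x y => by rw [map_add, mul_add]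
      map_zero' := AddMonoidHom.ext fun b => by simp
      map_add' := fun c c' => AddMonoidHom.ext fun b => by simp [add_mul] }
    fun a c b => by
      show φ (r (a • c)) * algebraMap B Bp b = φ (r c) * algebraMap B Bp (a • b)
      rw [← IsScalarTower.algebraMap_smul Ap a c, r.map_smul, smul_eq_mul, map_mul, hφ, Algebra.smul_def,
        map_mul]
      ring
  obtain ⟨c, hc⟩ := hbij.2 (1 ⊗ₜ b)
  have h := congrArg ψ hc
  simp only [Algebra.TensorProduct.includeLeftRingHom_apply, ψ, TensorProduct.liftAddHom_tmul] at h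
  change φ (r c) * algebraMap B Bp 1 = φ (r 1) * algebraMap B Bp b at h
  rw [hr1, map_one, map_one, one_mul, mul_one] at h
  obtain ⟨a, s, hs⟩ := IsLocalization.exists_mk'_eq p.primeCompl (r c)
  have h2 : algebraMap B Bp (algebraMap A B a) = algebraMap B Bp (algebraMap A B s * b) := by
    rw [map_mul, ← h, ← hs, ← hφ, ← hφ, ← map_mul φ, IsLocalization.mk'_spec']
  obtain ⟨⟨_, t, ht, rfl⟩, e⟩ := (IsLocalization.eq_iff_exists M Bp).1 h2
  refine ⟨t * a, t * s, fun hts => (Ideal.IsPrime.mem_or_mem ‹p.IsPrime› hts).elim ht s.2, ?_⟩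
  rw [map_mul, map_mul, mul_assoc]
  exact e.symm

/-- An integral map out of a ring with normal domain local rings into a reduced ring, bijective at the minimal
primes, is bijective. -/
theorem bijective_of_birational (f : A →+* B) (hint : f.IsIntegral) [IsReduced B]
    (hA : ∀ (m : Ideal A) [m.IsPrime], IsDomain (Localization.AtPrime m) ∧ IsIntegrallyClosed (Localization.AtPrime m))
    (hmin : ∀ q ∈ minimalPrimes B, q.comap f ∈ minimalPrimes A)
    (hinj : ∀ p ∈ minimalPrimes A, ∀ a, f a = 0 → a ∈ p)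
    (hgen : ∀ p ∈ minimalPrimes A, ∀ b, ∃ a s, s ∉ p ∧ f s * b = f a) :
    Function.Bijective f := by
  haveI : IsReduced A := isReduced_of_local_domains fun m _ => (hA m).1
  have hf : Function.Injective f := (injective_iff_map_eq_zero f).2 fun a ha => by
    refine IsNilpotent.eq_zero (mem_nilradical.1 ?_)
    rw [nilradical_eq_sInf]
    refine Ideal.mem_sInf.2 fun {P} hP => ?_
    haveI : P.IsPrime := hP
    obtain ⟨p, hp, hle⟩ := Ideal.exists_minimalPrimes_le (show (⊥ : Ideal A) ≤ P from bot_le)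
    exact hle (hinj p hp a ha)
  refine ⟨hf, fun b => ?_⟩
  let I : Ideal A := Submodule.comap (LinearMap.toSpanSingleton A A 1)
    { carrier := {s | f s * b ∈ f.range}
      add_mem' := fun {x y} hx hy => by
        show f (x + y) * b ∈ f.range
        rw [map_add, add_mul]; exact add_mem hx hy
      zero_mem' := by show f 0 * b ∈ f.range; rw [map_zero, zero_mul]; exact zero_mem _
      smul_mem' := fun c x hx => by
        show f (c * x) * b ∈ f.range
        rw [map_mul, mul_assoc]; exact mul_mem ⟨c, rfl⟩ hx }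
  have hI : ∀ s, s ∈ I ↔ f s * b ∈ f.range := fun s => by
    show f (s • (1 : A)) * b ∈ f.range ↔ _
    rw [smul_eq_mul, mul_one]
  suffices hone : (1 : A) ∈ I by
    obtain ⟨a, ha⟩ := (hI 1).1 hone
    exact ⟨a, by rw [ha, map_one, one_mul]⟩
  rw [← Ideal.eq_top_iff_one]
  by_contra hne
  obtain ⟨m, hm, hle⟩ := Ideal.exists_le_maximal I hne
  haveI := hm.isPrime
  obtain ⟨hdom, hic⟩ := hA m
  obtain ⟨p, hp, hpm⟩ := Ideal.exists_minimalPrimes_le (show (⊥ : Ideal A) ≤ m from bot_le)
  haveI : p.IsPrime := hp.1.1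
  let Am := Localization.AtPrime m
  let K := FractionRing Am
  -- minimal primes inside `m` are unique
  let k0 : Ideal A := RingHom.ker (algebraMap A Am)
  have hk0 : ∀ q : Ideal A, q.IsPrime → q ≤ m → k0 ≤ q := fun q hq hqm x hx => by
    obtain ⟨⟨u, hu⟩, e⟩ := (IsLocalization.map_eq_zero_iff m.primeCompl Am x).1 hx
    exact (hq.mem_or_mem (show u * x ∈ q by rw [e]; exact q.zero_mem)).resolve_left fun h => hu (hqm h)
  have huniq : ∀ q ∈ minimalPrimes A, q ≤ m → q = p := fun q hq hqm => by
    haveI : k0.IsPrime := RingHom.ker_isPrime _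
    exact (le_antisymm (hk0 q hq.1.1 hqm) (hq.2 ⟨inferInstance, bot_le⟩ (hk0 q hq.1.1 hqm))).symm.trans
      (le_antisymm (hk0 p hp.1.1 hpm) (hp.2 ⟨inferInstance, bot_le⟩ (hk0 p hp.1.1 hpm)))
  obtain ⟨a, s, hs, e⟩ := hgen p hp b
  let g : A →+* K := (algebraMap Am K).comp (algebraMap A Am)
  have hgs : g s ≠ 0 := fun h => by
    obtain ⟨⟨u, hu⟩, e'⟩ := (IsLocalization.map_eq_zero_iff m.primeCompl Am s).1
      ((IsFractionRing.to_map_eq_zero_iff).1 h)
    exact (Ideal.IsPrime.mem_or_mem ‹p.IsPrime› (show u * s ∈ p by rw [e']; exact p.zero_mem)).elim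
      (fun h => hu (hpm h)) hs
  obtain ⟨P, hPm, hPe⟩ := hint b
  have hroot : (P.scaleRoots s).eval a = 0 := by
    refine hf ?_
    rw [map_zero, ← Polynomial.eval₂_at_apply, ← e]
    exact Polynomial.scaleRoots_eval₂_eq_zero f hPe
  have hint' : IsIntegral Am (g a / g s) := by
    refine ⟨P.map (algebraMap A Am), hPm.map _, ?_⟩
    rw [Polynomial.eval₂_map]
    have h := congrArg g hroot
    rw [map_zero, ← Polynomial.eval₂_at_apply, show g a = g s * (g a / g s) by rw [mul_div_cancel₀ _ hgs],
      Polynomial.scaleRoots_eval₂_mul] at h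
    exact (mul_eq_zero.1 h).resolve_left (pow_ne_zero _ hgs)
  obtain ⟨x, hx⟩ := IsIntegrallyClosed.isIntegral_iff.1 hint'
  obtain ⟨a', t, rfl⟩ := IsLocalization.exists_mk'_eq m.primeCompl x
  rw [eq_div_iff hgs] at hx
  have hx' : algebraMap A Am (a' * s) = algebraMap A Am (a * t) := by
    refine IsFractionRing.injective Am K ?_
    rw [map_mul (algebraMap A Am), map_mul (algebraMap A Am), map_mul (algebraMap Am K), map_mul (algebraMap Am K)]
    show _ * g s = g a * _
    rw [← hx, mul_right_comm, ← map_mul (algebraMap Am K), IsLocalization.mk'_spec]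
  obtain ⟨⟨u, hu⟩, hu'⟩ := (IsLocalization.eq_iff_exists m.primeCompl Am).1 hx'
  let c : B := f u * (f t * b - f a')
  have hc : f s * c = 0 := by
    have h : f u * (f a' * f s) = f u * (f a * f t) := by
      rw [← map_mul, ← map_mul, ← map_mul, ← map_mul]; exact congrArg f hu'
    linear_combination (f u * f t) * e - h
  suffices ∃ w, w ∉ m ∧ f w * c = 0 by
    obtain ⟨w, hw, e'⟩ := this
    have hmem : w * u * t ∈ I := (hI _).2 ⟨w * u * a', by
      rw [map_mul, map_mul, map_mul, map_mul]; linear_combination (-1 : B) * e'⟩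
    exact ((hm.isPrime.mem_or_mem (hle hmem)).elim (fun h => (hm.isPrime.mem_or_mem h).elim hw hu) t.2)
  by_contra h
  push_neg at h
  let T : Submonoid B := m.primeCompl.map f ⊔ Submonoid.powers c
  have h0 : Disjoint ((⊥ : Ideal B) : Set B) (T : Set B) := Set.disjoint_left.2 fun y hy hyT => by
    obtain ⟨_, ⟨w, hw, rfl⟩, _, ⟨n, rfl⟩, rfl⟩ := Submonoid.mem_sup.1 hyT
    have hy0 : f w * c ^ n = 0 := hy
    exact h w hw (eq_zero_of_pow_eq_zero (n := n + 1)
      (by rw [show (f w * c) ^ (n + 1) = (f w * c ^ n) * (f w ^ n * c) by ring, hy0, zero_mul]))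
  obtain ⟨Q, hQ, -, hd⟩ := Ideal.exists_le_prime_disjoint ⊥ T h0
  haveI := hQ
  obtain ⟨q, hq, hqQ⟩ := Ideal.exists_minimalPrimes_le (show (⊥ : Ideal B) ≤ Q from bot_le)
  have hqm : q.comap f ≤ m := fun x hx => by
    by_contra hxm
    exact Set.disjoint_left.1 hd (hqQ hx) (Submonoid.mem_sup_left ⟨x, hxm, rfl⟩)
  have hqp : q.comap f = p := huniq _ (hmin q hq) hqm
  have hfs : f s ∉ q := fun h => hs (hqp ▸ h)
  exact Set.disjoint_left.1 hd (hqQ ((hq.1.1.mem_or_mem (show f s * c ∈ q by rw [hc]; exact q.zero_mem)).resolve_left hfs))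
    (Submonoid.mem_sup_right ⟨1, pow_one c⟩)

end BiratNormLib
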