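import Groth.Agent.BiratNormLib.Ring
import Mathlib.AlgebraicGeometry.Morphisms.Integral
import Mathlib.AlgebraicGeometry.Morphisms.IsIso
import Mathlib.AlgebraicGeometry.Pullbacks
import Mathlib.AlgebraicGeometry.Stalk
import Mathlib.AlgebraicGeometry.ResidueField
import Mathlib.RingTheory.Algebraic.Integral
import Groth.Agent.AlgSpLib.ReducedStalk
/-!
# Integral birational morphisms onto affine normal schemes
-/

set_option autoImplicit false
set_option linter.all false
set_option backward.isDefEq.respectTransparency false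
set_option backward.isDefEq.respectTransparency.types false

universe u

open CategoryTheory CategoryTheory.Limits AlgebraicGeometry
open scoped TensorProduct

namespace BiratNormLib

theorem isMax_iff_mem_minimalPrimes {A : CommRingCat.{u}} (x : Spec A) :
    (∀ w : Spec A, w ⤳ x → w = x) ↔ x.asIdeal ∈ minimalPrimes ↑A := by
  constructor
  · intro h
    refine ⟨⟨x.2, bot_le⟩, fun q hq hqx => ?_⟩
    have := h ⟨q, hq.1⟩ ((PrimeSpectrum.le_iff_specializes _ _).1 hqx)
    exact (congrArg PrimeSpectrum.asIdeal this).ge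
  · intro h w hw
    have hle : w.asIdeal ≤ x.asIdeal := (PrimeSpectrum.le_iff_specializes w x).2 hw
    exact PrimeSpectrum.ext (le_antisymm hle (h.2 ⟨w.2, bot_le⟩ hle))

/-- An integral morphism from a reduced affine scheme to a normal one which is birational is an isomorphism. -/
theorem isIso_of_birational_Spec {A B : CommRingCat.{u}} (φ : A ⟶ B) [IsIntegralHom (Spec.map φ)]
    [IsReduced (Spec B)]
    (hA : ∀ x : Spec A, IsDomain ((Spec A).presheaf.stalk x) ∧ IsIntegrallyClosed ((Spec A).presheaf.stalk x))
    (hgen : ∀ z : Spec B, (∀ w : Spec B, w ⤳ z → w = z) → ∀ w : Spec A, w ⤳ Spec.map φ z → w = Spec.map φ z)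
    (hfib : ∀ v : Spec A, (∀ w : Spec A, w ⤳ v → w = v) → ∃ (k : Type u) (_ : Field k)
      (β : Spec (CommRingCat.of k) ⟶ Spec A), v ∈ Set.range β ∧ IsIso (pullback.fst β (Spec.map φ))) :
    IsIso (Spec.map φ) := by
  haveI : _root_.IsReduced B := (affine_isReduced_iff B).1 inferInstance
  have hA' : ∀ (m : Ideal A) [m.IsPrime],
      IsDomain (Localization.AtPrime m) ∧ IsIntegrallyClosed (Localization.AtPrime m) := fun m hm => by
    obtain ⟨h1, h2⟩ := hA ⟨m, hm⟩
    let e := (Spec.stalkIso (R := A) ⟨m, hm⟩).commRingCatIsoToRingEquiv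
    haveI := h1
    haveI := h2
    exact ⟨e.symm.toMulEquiv.isDomain _, IsIntegrallyClosed.of_equiv e⟩
  haveI : _root_.IsReduced A := isReduced_of_local_domains fun m _ => (hA' m).1
  letI := φ.hom.toAlgebra
  have key : ∀ p ∈ minimalPrimes ↑A, (∀ a, φ.hom a = 0 → a ∈ p) ∧
      ∀ b, ∃ a s, s ∉ p ∧ φ.hom s * b = φ.hom a := fun p hp => by
    obtain ⟨k, _, β, ⟨pt, hpt⟩, hiso⟩ := hfib ⟨p, hp.1.1⟩ ((isMax_iff_mem_minimalPrimes _).2 hp)
    obtain ⟨χ, rfl⟩ := Spec.map_surjective β
    letI : Algebra A k := χ.hom.toAlgebra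
    have hker : RingHom.ker (algebraMap A k) = p := by
      have h := congrArg PrimeSpectrum.asIdeal hpt
      have h0 : PrimeSpectrum.asIdeal pt = ⊥ := (Ideal.eq_bot_or_top _).resolve_right pt.2.ne_top
      change Ideal.comap χ.hom (PrimeSpectrum.asIdeal pt) = p at h
      rw [h0] at h
      exact (RingHom.ker_eq_comap_bot _).trans h
    have hb : Function.Bijective (Algebra.TensorProduct.includeLeftRingHom : k →+* k ⊗[↑A] ↑B) := by
      haveI : IsIso (pullback.fst (Spec.map (CommRingCat.ofHom (algebraMap A k)))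
          (Spec.map (CommRingCat.ofHom (algebraMap A B)))) := hiso
      have : IsIso (Spec.map (CommRingCat.ofHom
          (Algebra.TensorProduct.includeLeftRingHom : k →+* k ⊗[↑A] ↑B))) := by
        rw [← pullbackSpecIso_inv_fst]; infer_instance
      exact isIso_SpecMap_iff.1 this
    exact generic_of_fibre hp hker hb
  haveI : IsIso φ := (ConcreteCategory.isIso_iff_bijective φ).2
    (bijective_of_birational φ.hom (IsIntegralHom.SpecMap_iff.1 inferInstance) hA'
      (fun q hq => (isMax_iff_mem_minimalPrimes (A := A) (PrimeSpectrum.comap φ.hom ⟨q, hq.1.1⟩)).1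
        (hgen _ ((isMax_iff_mem_minimalPrimes (A := B) ⟨q, hq.1.1⟩).2 hq)))
      (fun p hp => (key p hp).1) (fun p hp => (key p hp).2))
  infer_instance

/-- A map from an affine scheme all of whose points go to `t` factors through the local scheme at `t`. -/
theorem exists_factor_fromSpecStalk {Q X : Scheme.{u}} [IsAffine Q] [IsAffine X] (s : Q ⟶ X) (t : X)
    (hs : ∀ y, s y = t) : ∃ l : Q ⟶ Spec (X.presheaf.stalk t), l ≫ X.fromSpecStalk t = s := by
  haveI : Flat (X.fromSpecStalk t) := AlgSpLib.flat_fromSpecStalk t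
  let π := pullback.fst s (X.fromSpecStalk t)
  haveI : Surjective π := ⟨fun y => by
    obtain ⟨z, hz, -⟩ := Scheme.Pullback.exists_preimage_pullback (f := s) (g := X.fromSpecStalk t) y (IsLocalRing.closedPoint _)
      ((hs y).trans (Scheme.fromSpecStalk_closedPoint).symm : s y = X.fromSpecStalk t _)
    exact ⟨z, hz⟩⟩
  haveI : IsIso π := by
    haveI : IsIso (pullback.snd π π) := inferInstance
    exact MorphismProperty.of_pullback_snd_of_descendsAlong (P := MorphismProperty.isomorphisms Scheme.{u})
      (Q := @Surjective ⊓ @Flat ⊓ @QuasiCompact) (f := π) (g := π)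
      ⟨⟨inferInstance, (inferInstance : Flat π)⟩, (inferInstance : QuasiCompact π)⟩ this
  exact ⟨inv π ≫ pullback.snd s (X.fromSpecStalk t), by
    rw [Category.assoc, ← pullback.condition, IsIso.inv_hom_id_assoc]⟩

/-- The fibre of a morphism at a point with a one-point fibre and isomorphic local ring. -/
theorem isIso_fst_of_stalk {X W : Scheme.{u}} [IsAffine X] [IsAffine W] (g : X ⟶ W) (t : X)
    [IsIso (g.stalkMap t)] (huniq : ∀ t', g t' = g t → t' = t) {T : Scheme.{u}} [IsAffine T]
    (β : T ⟶ W) (hβ : ∀ pt, β pt = g t) : IsIso (pullback.fst β g) := by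
  haveI : IsAffine (pullback β g) := inferInstance
  obtain ⟨l, hl⟩ := exists_factor_fromSpecStalk (pullback.snd β g) t fun y => huniq _ (by
    rw [← Scheme.Hom.comp_apply, ← pullback.condition, Scheme.Hom.comp_apply, hβ])
  obtain ⟨lb, hlb⟩ := exists_factor_fromSpecStalk β (g t) hβ
  let σ := Spec.map (g.stalkMap t)
  have hσ : σ ≫ W.fromSpecStalk (g t) = X.fromSpecStalk t ≫ g := Scheme.SpecMap_stalkMap_fromSpecStalk g
  let m := lb ≫ inv σ ≫ X.fromSpecStalk t
  have hm : m ≫ g = β := by
    simp only [m, Category.assoc, ← hσ, IsIso.inv_hom_id_assoc, hlb]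
  have e : l = pullback.fst β g ≫ lb ≫ inv σ := by
    rw [← cancel_mono σ, Category.assoc, Category.assoc, IsIso.inv_hom_id, Category.comp_id,
      ← cancel_mono (W.fromSpecStalk (g t)), Category.assoc, hσ, reassoc_of% hl, Category.assoc, hlb]
    exact pullback.condition.symm
  refine ⟨pullback.lift (𝟙 _) m (by rw [Category.id_comp, hm]), pullback.hom_ext ?_ ?_, pullback.lift_fst _ _ _⟩
  · rw [Category.assoc, pullback.lift_fst, Category.comp_id, Category.id_comp]
  · rw [Category.assoc, pullback.lift_snd, Category.id_comp, ← hl, e]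
    simp only [m, Category.assoc]

/-- A specialization inside a fibre, with algebraic residue extension at the generization, is trivial. -/
theorem eq_of_specializes_of_residue_integral {U W : Scheme.{u}} (h : U ⟶ W) {p p' : U} (hs : p ⤳ p')
    (e : h p = h p') (hint : (h.residueFieldMap p).hom.IsIntegral) : p = p' := by
  letI := (h.residueFieldMap p).hom.toAlgebra
  haveI : Algebra.IsIntegral (W.residueField (h p)) (U.residueField p) := ⟨hint⟩
  let χ := U.presheaf.stalkSpecializes hs ≫ U.residue p
  let D : Subalgebra (W.residueField (h p)) (U.residueField p) :=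
    { χ.hom.range.toSubsemiring with
      algebraMap_mem' := fun c => by
        obtain ⟨a, rfl⟩ := IsLocalRing.residue_surjective c
        refine ⟨(W.presheaf.stalkSpecializes (Inseparable.of_eq e.symm).specializes ≫ h.stalkMap p').hom a, ?_⟩
        show ((W.presheaf.stalkSpecializes _ ≫ h.stalkMap p') ≫ U.presheaf.stalkSpecializes hs ≫ U.residue p).hom a =
          (W.residue (h p) ≫ h.residueFieldMap p).hom a
        rw [Scheme.residue_residueFieldMap, Category.assoc,
          ← Scheme.Hom.stalkSpecializes_stalkMap_assoc, ← Category.assoc, TopCat.Presheaf.stalkSpecializes_comp]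
        simp }
  have hF : IsField D := (Subalgebra.isField_of_algebraic D)
  have hmax : ∀ b, ¬ IsUnit b → χ.hom b = 0 := fun b hb => by
    by_contra hne
    obtain ⟨⟨_, c, rfl⟩, hc⟩ := hF.mul_inv_cancel
      (show (⟨χ.hom b, b, rfl⟩ : D) ≠ 0 from fun h => hne (congrArg Subtype.val h))
    have hc' : χ.hom b * χ.hom c = 1 := congrArg Subtype.val hc
    have hu : IsUnit (1 - b * c) := IsLocalRing.isUnit_one_sub_self_of_mem_nonunits _
      fun h => hb (isUnit_of_mul_isUnit_left h)
    have h0 := hu.map χ.hom
    rw [map_sub, map_mul, hc', map_one, sub_self] at h0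
    exact not_isUnit_zero h0
  have h1 : Spec.map χ (IsLocalRing.closedPoint (U.residueField p)) =
      IsLocalRing.closedPoint (U.presheaf.stalk p') := by
    refine PrimeSpectrum.ext (le_antisymm (IsLocalRing.le_maximalIdeal (Ideal.IsPrime.ne_top inferInstance))
      fun b hb => ?_)
    show χ.hom b ∈ IsLocalRing.maximalIdeal _
    rw [hmax b ((IsLocalRing.mem_maximalIdeal b).1 hb)]
    exact zero_mem _
  have h2 := congrArg (U.fromSpecStalk p') h1
  rw [Scheme.fromSpecStalk_closedPoint, ← Scheme.Hom.comp_apply,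
    show Spec.map χ ≫ U.fromSpecStalk p' = U.fromSpecResidueField p by
      rw [Spec.map_comp, Category.assoc, Scheme.SpecMap_stalkSpecializes_fromSpecStalk]; rfl] at h2
  exact (U.fromSpecResidueField_apply p _).symm.trans h2

end BiratNormLib
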