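import Groth.Agent.BiratNormLib.Scheme
import Groth.Agent.AlgSpLib.CodimZero
import Groth.Agent.AlgSpLib.DecentTop
import Groth.Agent.AlgSpLib.Iso
import Groth.Agent.AlgSpLib.FpqcMore
import Groth.Agent.AlgSpLib.MorPack
import Groth.Agent.AlgSpLib.Reduced
import Groth.Agent.SpectralQuot.DecentSober
import Groth.Prelude.Def_W4stk3decentspacesp2Birat
/-!
# Integral birational morphisms onto normal algebraic spaces
-/

set_option autoImplicit false
set_option linter.all false
set_option backward.isDefEq.respectTransparency false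
set_option backward.isDefEq.respectTransparency.types false

noncomputable section

universe u

open CategoryTheory CategoryTheory.Limits AlgebraicGeometry AlgSp AlgSpLib TopologicalSpace

namespace BiratNormLib

theorem isMax_of_isIso {X Y : Scheme.{u}} (e : X ⟶ Y) [IsIso e] {x : X} (h : ∀ w, w ⤳ x → w = x) :
    ∀ w, w ⤳ e x → w = e x := fun w hw => by
  obtain ⟨w, rfl⟩ := e.homeomorph.surjective w
  exact congrArg _ (h w (e.homeomorph.isInducing.specializes_iff.1 hw))

/-- An integral birational morphism from a reduced affine scheme to a normal one is an isomorphism. -/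
theorem isIso_of_birational_affine {X V : Scheme.{u}} [IsAffine X] [IsAffine V] (h : X ⟶ V) [IsIntegralHom h]
    [IsReduced X] (hV : ∀ x : V, IsDomain (V.presheaf.stalk x) ∧ IsIntegrallyClosed (V.presheaf.stalk x))
    (hgen : ∀ z : X, (∀ w, w ⤳ z → w = z) → ∀ w : V, w ⤳ h z → w = h z)
    (hfib : ∀ v : V, (∀ w, w ⤳ v → w = v) → ∃ (k : Type u) (_ : Field k)
      (β : Spec (CommRingCat.of k) ⟶ V), v ∈ Set.range β ∧ IsIso (pullback.fst β h)) : IsIso h := by
  haveI : IsReduced (Spec Γ(X, ⊤)) := isReduced_of_isOpenImmersion X.isoSpec.inv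
  have e : Spec.map h.appTop = X.isoSpec.inv ≫ h ≫ V.isoSpec.hom := by
    rw [← Scheme.isoSpec_hom_naturality, Iso.inv_hom_id_assoc]
  haveI : IsIntegralHom (Spec.map h.appTop) := by rw [e]; infer_instance
  have : IsIso (Spec.map h.appTop) := by
    refine isIso_of_birational_Spec h.appTop (fun x => ?_) (fun z hz => ?_) fun v hv => ?_
    · obtain ⟨h1, h2⟩ := hV (V.isoSpec.inv x)
      let e := (asIso (V.isoSpec.inv.stalkMap x)).commRingCatIsoToRingEquiv
      haveI := h1
      haveI := h2
      exact ⟨e.symm.toMulEquiv.isDomain _, IsIntegrallyClosed.of_equiv e⟩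
    · rw [e, Scheme.Hom.comp_apply, Scheme.Hom.comp_apply]
      exact isMax_of_isIso _ (hgen _ (isMax_of_isIso _ hz))
    · obtain ⟨k, hk, β, hvβ, hiso⟩ := hfib (V.isoSpec.inv v) (isMax_of_isIso _ hv)
      refine ⟨k, hk, β ≫ V.isoSpec.hom, ?_, ?_⟩
      · obtain ⟨pt, hpt⟩ := hvβ
        exact ⟨pt, by rw [Scheme.Hom.comp_apply, hpt, ← Scheme.Hom.comp_apply, Iso.inv_hom_id]; rfl⟩
      · have sq : IsPullback (pullback.fst β h) (pullback.snd β h ≫ X.isoSpec.hom) (β ≫ V.isoSpec.hom)
            (Spec.map h.appTop) := by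
          refine (IsPullback.of_hasPullback β h).of_iso (Iso.refl _) (Iso.refl _) X.isoSpec V.isoSpec
            (by simp) (by simp) (by simp) ?_
          rw [e, Iso.hom_inv_id_assoc]
        rw [← sq.isoPullback_inv_fst]
        infer_instance
  have e' : h = X.isoSpec.hom ≫ Spec.map h.appTop ≫ V.isoSpec.inv := by rw [e]; simp
  rw [e']
  infer_instance

variable {α : Type u} [TopologicalSpace α] [QuasiSober α] [T0Space α]

theorem exists_generic_generalization (x : α) : ∃ x' ∈ genericPoints α, x' ⤳ x := by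
  have hZ := irreducibleComponent_mem_irreducibleComponents x
  have hg := hZ.1.isGenericPoint_genericPoint (isClosed_of_mem_irreducibleComponents _ hZ)
  refine ⟨_, ?_, hg.specializes mem_irreducibleComponent⟩
  show closure {_} ∈ irreducibleComponents α
  rwa [hg.def]

theorem mem_genericPoints_iff {y : α} : y ∈ genericPoints α ↔ ∀ y', y' ⤳ y → y' = y := by
  constructor
  · intro hy y' h
    have h1 : closure {y} ⊆ closure {y'} := specializes_iff_closure_subset.1 h
    exact ((specializes_iff_closure_subset.2 (hy.2 (isIrreducible_singleton (x := y')).closure h1)).antisymm h).eq.symm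
  · intro h
    obtain ⟨y', hy', hy''⟩ := exists_generic_generalization y
    exact h y' hy'' ▸ hy'

variable {S : Scheme.{u}}

/-- Maximal points of a chart map to maximal points. -/
theorem isMax_ofPt {X : Sp S} (hd : IsDecent X) {U : Over S} {a : (yon S).obj U ⟶ X} (ha : RepWith @Etale a)
    {u : U.left} (h : ∀ w, w ⤳ u → w = u) : ∀ y, y ⤳ Points.ofPt a u → y = Points.ofPt a u := fun y hy => by
  obtain ⟨p, hp, -, hq⟩ := hd y
  obtain ⟨u', hu', e⟩ := exists_generalization_lift hy ⟨p, hp, hq⟩ ha rfl
  rw [← e, h u' hu']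

/-- Points of a chart over maximal points are maximal. -/
theorem isMax_of_isMax_ofPt {X : Sp S} (hX : IsAlgSpace X) (hd : IsDecent X) {U : Over S} {a : (yon S).obj U ⟶ X}
    (ha : RepWith @Etale a) {u : U.left} (h : ∀ y, y ⤳ Points.ofPt a u → y = Points.ofPt a u) :
    ∀ w, w ⤳ u → w = u := fun w hw => by
  refine (eq_of_specializes_of_finite hX (x := Points.ofPt a u) (fun V b hV hb => ?_) ha rfl
    (h _ (hw.map (Points.continuous_ofPt a))) hw).symm
  obtain ⟨p, hp, -, hq⟩ := hd (Points.ofPt a u)
  haveI := hV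
  rw [← hp]
  exact finite_fibre_of_qc_point hq hb

/-- There are no specializations in the fibres of integral morphisms of affine schemes. -/
theorem eq_of_specializes_of_integral {X W : Scheme.{u}} [IsAffine X] [IsAffine W] (g : X ⟶ W) [IsIntegralHom g]
    {x x' : X} (h : x ⤳ x') (e : g x = g x') : x = x' := by
  have e' : Spec.map g.appTop = X.isoSpec.inv ≫ g ≫ W.isoSpec.hom := by
    rw [← Scheme.isoSpec_hom_naturality, Iso.inv_hom_id_assoc]
  haveI : IsIntegralHom (Spec.map g.appTop) := by rw [e']; infer_instance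
  have hint := IsIntegralHom.SpecMap_iff.1 ‹IsIntegralHom (Spec.map g.appTop)›
  letI := g.appTop.hom.toAlgebra
  haveI : Algebra.IsIntegral Γ(W, ⊤) Γ(X, ⊤) := ⟨hint⟩
  let P := X.isoSpec.hom x
  let Q := X.isoSpec.hom x'
  have hle : P.asIdeal ≤ Q.asIdeal :=
    (PrimeSpectrum.le_iff_specializes P Q).2 (h.map X.isoSpec.hom.continuous)
  have hc : P.asIdeal.comap g.appTop.hom = Q.asIdeal.comap g.appTop.hom := by
    have h1 : ∀ z, Spec.map g.appTop (X.isoSpec.hom z) = W.isoSpec.hom (g z) := fun z => by
      rw [← Scheme.Hom.comp_apply, Scheme.isoSpec_hom_naturality, Scheme.Hom.comp_apply]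
    exact congrArg PrimeSpectrum.asIdeal ((h1 x).trans ((congrArg _ e).trans (h1 x').symm))
  refine X.isoSpec.hom.homeomorph.injective (PrimeSpectrum.ext (le_antisymm hle fun b hb => ?_) : P = Q)
  by_contra hbP
  exact (Ideal.comap_lt_comap_of_integral_mem_sdiff (R := Γ(W, ⊤)) hle ⟨hb, hbP⟩ (Algebra.IsIntegral.isIntegral b)).ne hc

/-- The pullback to an affine normal chart of an integral birational morphism to a normal space is an isomorphism. -/
theorem isIso_chart {X Y : AlgSp.Space S} (f : X ⟶ Y) (hX : IsDecent X.obj) (hY : IsDecent Y.obj)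
    (hi : RepWith @IsIntegralHom f.hom) (hf : W4stk3decentspacesp2.IsBirational f.hom) (hXr : IsReducedSp X.obj)
    {O XO : Over S} [IsAffine O.left] {b : (yon S).obj O ⟶ Y.obj} (hb : RepWith @Etale b)
    (hO : ∀ x : O.left, IsDomain (O.left.presheaf.stalk x) ∧ IsIntegrallyClosed (O.left.presheaf.stalk x))
    {q : (yon S).obj XO ⟶ X.obj} {h : XO ⟶ O} (sq : IsPullback q ((yon S).map h) f.hom b) : IsIso h.left := by
  haveI := SpectralQuot.quasiSober_of_decent X hX
  haveI := SpectralQuot.quasiSober_of_decent Y hY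
  haveI := t0Space_points X.property hX
  haveI := t0Space_points Y.property hY
  haveI : IsIntegralHom h.left := hi.property b q h sq
  haveI : IsAffine XO.left := isAffine_of_isAffineHom h.left
  have hq : RepWith @Etale q := repWith_of_isPullback sq.flip hb
  haveI : IsReduced XO.left := isReduced_of_chart hXr hq
  refine isIso_of_birational_affine h.left hO (fun z hz => ?_) fun v hv => ?_
  · refine isMax_of_isMax_ofPt Y.property hY hb ?_
    rw [← ofPt_yon_comp, ← sq.w, ← Points.map_ofPt]
    exact mem_genericPoints_iff.1 (hf.bijOn.mapsTo (mem_genericPoints_iff.2 (isMax_ofPt hX hq hz)))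
  have hy := mem_genericPoints_iff.2 (isMax_ofPt hY hb hv)
  obtain ⟨x, hx, hxy⟩ := hf.bijOn.surjOn hy
  obtain ⟨U, W₀, a, b₀, g₀, u, ha, hb₀, e₀, hu, hst⟩ := hf.stalkIso x hx
  -- an affine neighbourhood in the target
  obtain ⟨A, hA, huA, -⟩ := exists_isAffineOpen_mem_and_subset (U := ⊤) (x := g₀.left u) trivial
  let W : Over S := Over.mk (A.ι ≫ W₀.hom)
  let jA : W ⟶ W₀ := Over.homMk A.ι rfl
  haveI : IsAffine W.left := hA
  let bW := (yon S).map jA ≫ b₀
  have hbW : RepWith @IsOpenImmersion bW :=
    repWith_comp ((repWith_yon_map_iff (P := (@IsOpenImmersion : MorphismProperty Scheme.{u})) jA).2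
      (inferInstanceAs (IsOpenImmersion A.ι))) hb₀
  let U' : Over S := Over.mk ((g₀.left ⁻¹ᵁ A).ι ≫ U.hom)
  let jU : U' ⟶ U := Over.homMk (g₀.left ⁻¹ᵁ A).ι rfl
  let g : U' ⟶ W := Over.homMk (g₀.left ∣_ A) (by
    show (g₀.left ∣_ A) ≫ A.ι ≫ W₀.hom = (g₀.left ⁻¹ᵁ A).ι ≫ U.hom
    rw [morphismRestrict_ι_assoc, Over.w])
  have hg : g ≫ jA = jU ≫ g₀ := Over.OverMorphism.ext (morphismRestrict_ι _ _)
  let aU := (yon S).map jU ≫ a
  let u' : U'.left := ⟨u, huA⟩
  have eU : aU ≫ f.hom = (yon S).map g ≫ bW := by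
    simp only [aU, bW, Category.assoc, e₀]
    rw [← Functor.map_comp_assoc, ← Functor.map_comp_assoc, hg]
  -- the pullback
  obtain ⟨XW, qW, g', sqW⟩ : ∃ (XW : Over S) (qW : (yon S).obj XW ⟶ X.obj) (g' : XW ⟶ W),
      IsPullback qW ((yon S).map g') f.hom bW := ⟨_, _, _, hi.rep.isPullback bW⟩
  haveI : IsIntegralHom g'.left := hi.property bW qW g' sqW
  haveI : IsAffine XW.left := isAffine_of_isAffineHom g'.left
  have hqW : RepWith @IsOpenImmersion qW := repWith_of_isPullback sqW.flip hbW
  obtain ⟨j, hj⟩ := (yon S).map_surjective (sqW.lift aU ((yon S).map g) eU)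
  have hjg : j ≫ g' = g := (yon S).map_injective (by rw [Functor.map_comp, hj, sqW.lift_snd])
  have hjq : (yon S).map j ≫ qW = aU := by rw [hj, sqW.lift_fst]
  haveI : Mono qW := mono_of_repWith (fun g (_ : IsOpenImmersion g) => (inferInstance : Mono g)) hqW
  have haU : RepWith @IsOpenImmersion aU :=
    repWith_comp ((repWith_yon_map_iff (P := (@IsOpenImmersion : MorphismProperty Scheme.{u})) jU).2
      (inferInstanceAs (IsOpenImmersion (g₀.left ⁻¹ᵁ A).ι))) ha
  have sqj : IsPullback ((yon S).map j) (𝟙 _) qW aU :=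
    ⟨⟨by rw [hjq, Category.id_comp]⟩, ⟨PullbackCone.IsLimit.mk _ (fun c => c.snd)
      (fun c => (cancel_mono qW).1 (by rw [Category.assoc, hjq]; exact c.condition.symm))
      (fun c => Category.comp_id _) fun c m _ h2 => by simpa using h2⟩⟩
  haveI : IsOpenImmersion j.left :=
    (repWith_yon_map_iff (P := (@IsOpenImmersion : MorphismProperty Scheme.{u})) j).1
      (repWith_of_isPullback sqj.flip haU)
  let t : XW.left := j.left u'
  have hst' : IsIso (g.left.stalkMap u') := by
    haveI : IsIso (g₀.left.stalkMap u) := hst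
    exact ((MorphismProperty.isomorphisms _).arrow_mk_iso_iff (morphismRestrictStalkMap g₀.left A u')).2
      (inferInstanceAs (IsIso (g₀.left.stalkMap u)))
  haveI : IsIso (g'.left.stalkMap t) := by
    haveI : IsIso ((j.left ≫ g'.left).stalkMap u') := by
      have e : j.left ≫ g'.left = g.left := congrArg Over.Hom.left hjg
      have key : ∀ f₁ : U'.left ⟶ W.left, f₁ = g.left → IsIso (f₁.stalkMap u') := by rintro _ rfl; exact hst'
      exact key _ e
    haveI : IsIso (g'.left.stalkMap t ≫ j.left.stalkMap u') := by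
      rw [← Scheme.Hom.stalkMap_comp]; infer_instance
    exact IsIso.of_isIso_comp_right (g'.left.stalkMap t) (j.left.stalkMap u')
  have htx : Points.ofPt qW t = x := by
    rw [← ofPt_yon_comp, hjq, ofPt_yon_comp]; exact hu
  have hgt : Points.ofPt bW (g'.left t) = Points.ofPt b v := by
    rw [← ofPt_yon_comp, ← sqW.w, ← Points.map_ofPt, htx, hxy]
  have hinj : Function.Injective (Points.ofPt qW) := by
    rw [ofPt_comp_ofScheme]
    exact (injective_map_of_mono qW).comp (Points.schemeHomeo XW).injective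
  have hopen : IsOpenMap (Points.ofPt qW) :=
    isOpenMap_ofPt (repWith_mono (fun _ _ g (_ : IsOpenImmersion g) => (inferInstance : Etale g)) hqW)
  have huniq : ∀ t', g'.left t' = g'.left t → t' = t := fun t' ht' => by
    have h1 : Points.map f.hom (Points.ofPt qW t') = Points.ofPt b v := by
      rw [Points.map_ofPt, sqW.w, ofPt_yon_comp, ht', hgt]
    obtain ⟨x'', hx'', hs⟩ := exists_generic_generalization (Points.ofPt qW t')
    have h2 : Points.map f.hom x'' = Points.map f.hom x := by
      rw [hxy]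
      exact mem_genericPoints_iff.1 hy _ (h1 ▸ hs.map (Points.continuous_map f.hom))
    have h3 : x'' = x := hf.bijOn.injOn hx'' hx h2
    rw [h3, ← htx] at hs
    have hs' : t ⤳ t' :=
      (Topology.IsOpenEmbedding.of_continuous_injective_isOpenMap (Points.continuous_ofPt qW) hinj hopen).isInducing.specializes_iff.1 hs
    exact (eq_of_specializes_of_integral g'.left hs' ht'.symm).symm
  -- a common field point
  obtain ⟨R, rO, rW, sqR⟩ := exists_isPullback_yon b bW hb.rep
  obtain ⟨r, hr1, hr2⟩ := (ofPt_eq_ofPt_iff sqR v (g'.left t)).1 hgt.symm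
  let Kk : Over S := Over.mk (R.left.fromSpecResidueField r ≫ R.hom)
  let ρ : Kk ⟶ R := Over.homMk (R.left.fromSpecResidueField r) rfl
  let βO : Kk ⟶ O := ρ ≫ rO
  let βW : Kk ⟶ W := ρ ≫ rW
  have hρ : ∀ pt, ρ.left pt = r := R.left.fromSpecResidueField_apply r
  have hβ : (yon S).map βO ≫ b = (yon S).map βW ≫ bW := by
    simp only [βO, βW, Functor.map_comp, Category.assoc, sqR.w]
  let Q := pullback βO h
  have big : IsPullback ((yon S).map (pullback.snd βO h) ≫ q) ((yon S).map (pullback.fst βO h)) f.hom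
      ((yon S).map βO ≫ b) := ((IsPullback.of_hasPullback βO h).flip.map (yon S)).paste_horiz sq
  rw [hβ] at big
  obtain ⟨l, hl⟩ := (yon S).map_surjective (sqW.lift ((yon S).map (pullback.snd βO h) ≫ q)
    ((yon S).map (pullback.fst βO h ≫ βW)) (by rw [Functor.map_comp, big.w, Category.assoc]))
  have hlq : (yon S).map l ≫ qW = (yon S).map (pullback.snd βO h) ≫ q := by rw [hl, sqW.lift_fst]
  have hlg : (yon S).map l ≫ (yon S).map g' = (yon S).map (pullback.fst βO h) ≫ (yon S).map βW := by
    rw [hl, sqW.lift_snd, Functor.map_comp]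
  rw [← hlq] at big
  have sqQ := isPullback_left (IsPullback.of_right big hlg sqW)
  have sqQ' := isPullback_left ((IsPullback.of_hasPullback βO h).map (yon S))
  refine ⟨R.left.residueField r, inferInstance, βO.left, ⟨IsLocalRing.closedPoint _, ?_⟩, ?_⟩
  · show rO.left (ρ.left _) = v
    rw [hρ, hr1]
  · have hiso : IsIso (pullback.fst βW.left g'.left) := isIso_fst_of_stalk g'.left t huniq βW.left fun pt => by
      show rW.left (ρ.left pt) = g'.left t
      rw [hρ, hr2]
    have : IsIso (pullback.fst βO h).left := by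
      rw [← sqQ.flip.isoPullback_hom_fst]; infer_instance
    rw [← sqQ'.isoPullback_inv_fst]
    infer_instance

/-- An integral birational morphism from a reduced space to a normal one is an isomorphism. -/
theorem isIso_of_birational {X Y : AlgSp.Space S} (f : X ⟶ Y) (hX : IsDecent X.obj) (hY : IsDecent Y.obj)
    (hi : IsIntegralMor f.hom) (hf : W4stk3decentspacesp2.IsBirational f.hom) (hXr : IsReducedSp X.obj)
    {U : Over S} {p : (yon S).obj U ⟶ Y.obj} (hp : RepWith @Etale p) (hps : RepWith @Surjective p)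
    (hU : ∀ x : U.left, IsDomain (U.left.presheaf.stalk x) ∧ IsIntegrallyClosed (U.left.presheaf.stalk x)) :
    IsIso f.hom := by
  have hi' := isIntegralMor_iff.1 hi
  obtain ⟨P, q, h, sq⟩ : ∃ (P : Over S) (q : (yon S).obj P ⟶ X.obj) (h : P ⟶ U),
      IsPullback q ((yon S).map h) f.hom p := ⟨_, _, _, hi'.rep.isPullback p⟩
  have : IsIso h.left := by
    refine IsZariskiLocalAtTarget.of_openCover (P := MorphismProperty.isomorphisms Scheme.{u})
      U.left.affineCover fun i => ?_
    let O : Over S := Over.mk (U.left.affineCover.f i ≫ U.hom)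
    let o : O ⟶ U := Over.homMk (U.left.affineCover.f i) rfl
    haveI : IsAffine O.left := inferInstanceAs (IsAffine (U.left.affineCover.X i))
    haveI : IsOpenImmersion o.left := inferInstanceAs (IsOpenImmersion (U.left.affineCover.f i))
    have sqo := IsPullback.of_hasPullback h o
    have := isIso_chart f hX hY hi' hf hXr (O := O) (b := (yon S).map o ≫ p)
      (repWith_comp ((repWith_yon_map_iff (P := (@Etale : MorphismProperty Scheme.{u})) o).2 inferInstance) hp)
      (fun x => by
        obtain ⟨h1, h2⟩ := hU (o.left x)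
        let e := (asIso (o.left.stalkMap x)).commRingCatIsoToRingEquiv
        haveI := h1
        haveI := h2
        exact ⟨e.symm.toMulEquiv.isDomain _, IsIntegrallyClosed.of_equiv e⟩)
      ((sqo.map (yon S)).paste_horiz sq)
    show IsIso (pullback.snd h.left o.left)
    rw [← (isPullback_left (sqo.map (yon S))).isoPullback_inv_snd]
    infer_instance
  haveI : IsIso h := by
    haveI : IsIso ((Over.forget S).map h) := this
    exact isIso_of_reflects_iso h (Over.forget S)
  exact (isLocalOnBase_fpqc_isomorphisms S (fun _ : PUnit.{u + 1} => (yon S).obj U) (fun _ => p) Y.property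
    (fun _ => IsAlgSpace.yon_obj U) (isFpqcCover_chart hp hps) f.hom X.property (fun _ => (yon S).obj P)
    (fun _ => (yon S).map h) (fun _ => q) (fun _ => IsAlgSpace.yon_obj P) fun _ => sq).2
    fun _ => (inferInstance : IsIso ((yon S).map h))

end BiratNormLib
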